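import Cfsg.Agent.H666.Clif.P2
import Cfsg.Agent.OddOrderCharacters.AbelianTwist
import Cfsg.Agent.Blocks.OsimaUnion
import Cfsg.Agent.Blocks.Covering
set_option linter.all false

-- part: H666/Clif/P3
section
/-!
# A member of a block fixed by a linear character
-/

set_option autoImplicit false

open Cfsg IsLocalRing Module
open scoped ComplexConjugate
open Cfsg.Agent.H657 Cfsg.Agent.H577.GLB
open Cfsg.Agent.H608.BlockRank Cfsg.Agent.Blocks.Basic Cfsg.Agent.Blocks.Local

namespace Cfsg.Agent.H666.Clif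

universe u

section

variable {G : Type u} [Group G]

theorem cj_cj (N : Subgroup G) [N.Normal] (g h : G) (f : N → ℂ) :
    cj N h (cj N g f) = cj N (g * h) f := by
  funext x
  unfold cj
  congr 1
  apply Subtype.ext
  simp only [mul_inv_rev]
  group

theorem cj_one (N : Subgroup G) [N.Normal] (f : N → ℂ) : cj N 1 f = f := by
  funext x
  unfold cj
  congr 1
  apply Subtype.ext
  simp

theorem cj_classFun (N : Subgroup G) [N.Normal] {f : N → ℂ} (hf : IsClassFunction N f) {n : G}
    (hn : n ∈ N) : cj N n f = f := by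
  funext x
  have := hf x ⟨n, hn⟩
  rw [← this]
  rfl

/-- The stabilizer of a function on `N`. -/
def stab (N : Subgroup G) [N.Normal] (f : N → ℂ) : Subgroup G where
  carrier := {g | cj N g f = f}
  one_mem' := cj_one N f
  mul_mem' := by
    intro a b ha hb
    change cj N (a * b) f = f
    rw [← cj_cj, show cj N a f = f from ha]
    exact hb
  inv_mem' := by
    intro a ha
    have ha' : cj N a f = f := ha
    change cj N a⁻¹ f = f
    conv_lhs => rw [← ha']
    rw [cj_cj, mul_inv_cancel, cj_one]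

theorem mem_stab (N : Subgroup G) [N.Normal] (f : N → ℂ) (g : G) :
    g ∈ stab N f ↔ cj N g f = f := Iff.rfl

theorem le_stab (N : Subgroup G) [N.Normal] {f : N → ℂ} (hf : IsClassFunction N f) :
    N ≤ stab N f := fun _ hn => cj_classFun N hf hn

theorem normal_of_le (N : Subgroup G) [N.Normal] (hc : IsCyclic (G ⧸ N)) {T : Subgroup G}
    (hT : N ≤ T) : T.Normal := by
  have hcomm : ∀ a b : G ⧸ N, a * b = b * a := by
    let _ := hc.commGroup
    intro a b
    exact mul_comm a b
  refine ⟨fun t ht g => ?_⟩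
  have h1 : (QuotientGroup.mk' N) (g * t * g⁻¹ * t⁻¹) = 1 := by
    rw [map_mul, map_mul, map_mul, hcomm (QuotientGroup.mk' N g) (QuotientGroup.mk' N t), map_inv,
      map_inv, mul_inv_cancel_right, mul_inv_cancel]
  rw [QuotientGroup.mk'_apply, QuotientGroup.eq_one_iff] at h1
  have h2 := T.mul_mem (hT h1) ht
  rwa [inv_mul_cancel_right] at h2

/-- A faithful linear character of the cyclic quotient `G / T`. -/
theorem exists_lin [Finite G] (N : Subgroup G) [N.Normal] (hc : IsCyclic (G ⧸ N)) {T : Subgroup G}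
    (hT : N ≤ T) : ∃ l : G →* ℂˣ, l.ker = T ∧ orderOf l = T.index := by
  have hTn : T.Normal := normal_of_le N hc hT
  have hcT : IsCyclic (G ⧸ T) := by
    let F : G ⧸ N →* G ⧸ T := QuotientGroup.map N T (MonoidHom.id G) (by
      intro x hx
      exact hT hx)
    refine isCyclic_of_surjective F ?_
    intro y
    obtain ⟨g, rfl⟩ := QuotientGroup.mk_surjective y
    exact ⟨QuotientGroup.mk g, rfl⟩
  set n := Nat.card (G ⧸ T) with hn
  have hn0 : n ≠ 0 := Nat.card_pos.ne'
  have : NeZero n := ⟨hn0⟩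
  have hcard : Nat.card (G ⧸ T) = Nat.card (rootsOfUnity n ℂ) := by
    rw [Complex.card_rootsOfUnity]
  let e : G ⧸ T ≃* rootsOfUnity n ℂ := mulEquivOfCyclicCardEq hcard
  let l : G →* ℂˣ := ((rootsOfUnity n ℂ).subtype.comp e.toMonoidHom).comp (QuotientGroup.mk' T)
  have hl : ∀ g, l g = (e (QuotientGroup.mk g) : ℂˣ) := fun g => rfl
  refine ⟨l, ?_, ?_⟩
  · ext g
    rw [MonoidHom.mem_ker, hl]
    rw [show ((1 : ℂˣ)) = ((1 : rootsOfUnity n ℂ) : ℂˣ) from rfl, Subtype.coe_inj,
      map_eq_one_iff e e.injective, QuotientGroup.eq_one_iff]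
  · rw [Subgroup.index, ← hn]
    refine Nat.dvd_antisymm ?_ ?_
    · refine orderOf_dvd_of_pow_eq_one ?_
      ext g
      have h1 := (e (QuotientGroup.mk g)).2
      rw [mem_rootsOfUnity] at h1
      rw [MonoidHom.pow_apply, hl, h1]
      rfl
    · obtain ⟨c, hc'⟩ := IsCyclic.exists_generator (α := G ⧸ T)
      obtain ⟨g, rfl⟩ := QuotientGroup.mk_surjective c
      have h1 : orderOf (QuotientGroup.mk g : G ⧸ T) = n := by
        rw [hn]
        exact orderOf_eq_card_of_forall_mem_zpowers hc'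
      rw [← h1]
      refine orderOf_dvd_of_pow_eq_one ?_
      have h2 : (l ^ orderOf l) g = 1 := by rw [pow_orderOf_eq_one]; rfl
      rw [MonoidHom.pow_apply, hl] at h2
      have h3 : (e (QuotientGroup.mk g)) ^ orderOf l = 1 := by
        apply Subtype.ext
        rw [Subgroup.coe_pow]
        exact h2
      rw [← map_pow, map_eq_one_iff e e.injective] at h3
      exact h3

/-- The twisted sum over the group. -/
noncomputable def tw [Fintype G] (N : Subgroup G) [N.Normal] (l : G →* ℂˣ) : (N → ℂ) →ₗ[ℂ] (N → ℂ) where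
  toFun f := ∑ g : G, (l g : ℂ) • cj N g f
  map_add' f f' := by
    rw [← Finset.sum_add_distrib]
    refine Finset.sum_congr rfl fun g _ => ?_
    rw [← smul_add]
    rfl
  map_smul' c f := by
    rw [RingHom.id_apply, Finset.smul_sum]
    refine Finset.sum_congr rfl fun g _ => ?_
    rw [smul_comm]
    rfl

theorem tw_apply [Fintype G] (N : Subgroup G) [N.Normal] (l : G →* ℂˣ) (f : N → ℂ) :
    tw N l f = ∑ g : G, (l g : ℂ) • cj N g f := rfl

theorem tw_eq_zero [Fintype G] (N : Subgroup G) [N.Normal] (l : G →* ℂˣ) {f : N → ℂ} {s : G}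
    (hs : cj N s f = f) (hl : l s ≠ 1) : tw N l f = 0 := by
  have h1 : tw N l f = (l s : ℂ) • tw N l f := by
    conv_lhs => rw [tw_apply]
    rw [tw_apply, Finset.smul_sum, ← Equiv.sum_comp (Equiv.mulLeft s)]
    refine Finset.sum_congr rfl fun g _ => ?_
    rw [Equiv.coe_mulLeft, map_mul, ← cj_cj, hs, Units.val_mul, mul_smul]
  have h2 : ((l s : ℂ) - 1) • tw N l f = 0 := by
    rw [sub_smul, one_smul, ← h1, sub_self]
  rcases smul_eq_zero.1 h2 with h | h
  · exact absurd (Units.ext (sub_eq_zero.1 h)) hl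
  · exact h

theorem tw_pReg [Fintype G] {p : ℕ} (N : Subgroup G) [N.Normal] (l : G →* ℂˣ) (f : N → ℂ) :
    tw N l (pReg p f) = pReg p (tw N l f) := by
  rw [tw_apply, tw_apply, map_sum]
  refine Finset.sum_congr rfl fun g _ => ?_
  rw [map_smul]
  congr 1
  funext x
  have hx : IsPRegular p (⟨g * x * g⁻¹, (inferInstance : N.Normal).conj_mem x x.2 g⟩ : N) ↔
      IsPRegular p x := by
    unfold IsPRegular
    rw [← Subgroup.orderOf_coe, ← Subgroup.orderOf_coe x]
    have := (MulAut.conj g).orderOf_eq (x : G)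
    rw [MulAut.conj_apply] at this
    rw [this]
  by_cases h : IsPRegular p x
  · rw [pReg_of h]
    exact pReg_of (hx.2 h) _
  · rw [pReg_of_not h]
    exact pReg_of_not (fun h' => h (hx.1 h')) _

end

section

variable {V : ValuationSubring ℂ} {G : Type u} [Group G] [Finite G] {p : ℕ} {M : Ideal AlgInt}

/-- A character of `G` over `ε` vanishes outside the (normal) stabilizer of `ε`. -/
theorem vanish (N : Subgroup G) [N.Normal] (hc : IsCyclic (G ⧸ N)) {χ : IrrCharacter G}
    {ε : IrrCharacter N} (h : Ov N χ ε) {g : G} (hg : g ∉ stab N (ε : N → ℂ)) :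
    (χ : G → ℂ) g = 0 := by
  have := Fintype.ofFinite G
  have := Fintype.ofFinite N
  set T := stab N (ε : N → ℂ) with hT
  have := Fintype.ofFinite T
  have hNT : N ≤ T := le_stab N (irr_isClassFunction ε.2)
  have hTn : T.Normal := normal_of_le N hc hNT
  obtain ⟨ψ, -, hψ, -⟩ := CharDeep.CliffordCorr.clifford_correspondence N (ε : N → ℂ) ε.2 T
    (by
      intro g
      rw [hT, mem_stab]
      exact ⟨fun h n => congrFun h n, fun h => funext h⟩) hNT (χ : G → ℂ) χ.2 ((ov_iff N χ ε).1 h)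
  rw [← hψ]
  unfold indFun
  rw [Finset.sum_eq_zero, mul_zero]
  intro x _
  apply Function.extend_apply'
  rintro ⟨y, hy⟩
  have hx : x⁻¹ * g * x ∈ T := hy ▸ y.2
  apply hg
  have := hTn.conj_mem _ hx x
  have h3 : x * (x⁻¹ * g * x) * x⁻¹ = g := by group
  rwa [h3] at this

/-- P3, with P1 as hypothesis. -/
theorem exists_fixed_of (hM : IsPModular p M) (hV : Above M V) (N : Subgroup G) [N.Normal]
    (hc : IsCyclic (G ⧸ N)) {a : ℕ} (hi : Nat.card (G ⧸ N) = p ^ a)
    (hcl : ∀ i : IBr V G, ∃ O : Finset (IBr V N), O.Nonempty ∧ IsRes p N i O ∧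
      (∀ j ∈ O, ∀ g : G, ∃ j' ∈ O, phi p j' = cj N g (phi p j)) ∧
      (∀ j ∈ O, ∀ j' ∈ O, ∃ g : G, phi p j' = cj N g (phi p j)))
    {B : Set (IrrCharacter G)} (hB : IsPBlock M B) (i : IBr V G) (hiB : i ∈ ibrUnder V B)
    (O : Finset (IBr V N)) (hO : IsRes p N i O) :
    ∃ (l : G →* ℂˣ) (χ : IrrCharacter G), χ ∈ B ∧ (∀ x ∈ N, l x = 1) ∧ orderOf l = O.card ∧
      ∀ g, (l g : ℂ) * (χ : G → ℂ) g = (χ : G → ℂ) g := by
  classical
  have : Fact p.Prime := ⟨hM.1⟩
  have : CharP (ResidueField V) p := hV.charP hM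
  have := Fintype.ofFinite G
  have hMp := isPrime_of_isPModular hM
  have hBU : IsUnion M B := fun χ ψ h hχ => Blocks.Covering.mem_of_sameBlock hMp hB hχ h
  obtain ⟨O', hne, hO', h1, h2⟩ := hcl i
  obtain rfl := isRes_unique hM hV N hO hO'
  obtain ⟨j0, hj0⟩ := hne
  have hinj : Function.Injective (fun j : IBr V N => phi p j) :=
    (linearIndependent_phi (V := V) (G := N) (p := p)).injective
  set T := stab N (phi p j0) with hT
  have hNT : N ≤ T := le_stab N (phi_isClassFunction p j0)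
  have hTn : T.Normal := normal_of_le N hc hNT
  obtain ⟨l, hl1, hl2⟩ := exists_lin N hc hNT
  -- the orbit map
  choose F hF1 hF2 using h1 j0 hj0
  have hFeq : ∀ g h : G, F g = F h ↔ g * h⁻¹ ∈ T := by
    intro g h
    rw [hT, mem_stab, ← cj_cj]
    constructor
    · intro e
      rw [← hF2 g, e, hF2 h, cj_cj, mul_inv_cancel, cj_one]
    · intro e
      apply hinj
      change phi p (F g) = phi p (F h)
      rw [hF2, hF2]
      have h3 := congrArg (cj N h) e
      rw [cj_cj, cj_cj, inv_mul_cancel, mul_one] at h3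
      rw [h3]
  have hcard : O.card = T.index := by
    rw [Subgroup.index, ← Fintype.card_coe, ← Nat.card_eq_fintype_card]
    refine (Nat.card_congr (Equiv.ofBijective (Quotient.lift
      (s := QuotientGroup.leftRel T) (fun g : G => (⟨F g, hF1 g⟩ : O)) ?_) ⟨?_, ?_⟩)).symm
    · intro a b hab
      replace hab : a⁻¹ * b ∈ T := QuotientGroup.leftRel_apply.1 hab
      apply Subtype.ext
      rw [hFeq]
      have h4 := hTn.conj_mem _ (T.inv_mem hab) a
      have h5 : a * (a⁻¹ * b)⁻¹ * a⁻¹ = a * b⁻¹ := by group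
      rwa [h5] at h4
    · intro a b hab
      induction a using Quotient.inductionOn with | _ a
      induction b using Quotient.inductionOn with | _ b
      have h3 : F a = F b := congrArg Subtype.val hab
      rw [hFeq] at h3
      apply Quotient.sound
      refine QuotientGroup.leftRel_apply.2 ?_
      have h4 := hTn.conj_mem _ (T.inv_mem h3) b⁻¹
      have h5 : b⁻¹ * (a * b⁻¹)⁻¹ * b⁻¹⁻¹ = a⁻¹ * b := by group
      rwa [h5] at h4
    · rintro ⟨j, hj⟩
      obtain ⟨g, hg⟩ := h2 j0 hj0 j hj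
      refine ⟨Quotient.mk _ g, ?_⟩
      apply Subtype.ext
      apply hinj
      change phi p (F g) = phi p j
      rw [hF2, hg]
  -- the twisted sum is not zero
  have hne0 : tw N l (phi p j0) ≠ 0 := by
    intro h0
    have := Fintype.ofFinite (IBr V N)
    have h3 : ∑ j : IBr V N, (∑ g : G with F g = j, (l g : ℂ)) • phi p j = 0 := by
      rw [← h0, tw_apply]
      rw [← Finset.sum_fiberwise (Finset.univ) F]
      refine Finset.sum_congr rfl fun j _ => ?_
      rw [Finset.sum_smul]
      refine Finset.sum_congr rfl fun g hg => ?_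
      rw [← hF2, (Finset.mem_filter.1 hg).2]
    have h4 := Fintype.linearIndependent_iff.1 (linearIndependent_phi (V := V) (G := N) (p := p)) _ h3
      (F 1)
    have h5 : ∀ g ∈ Finset.univ.filter (fun g : G => F g = F 1), (l g : ℂ) = 1 := by
      intro g hg
      have h6 := (Finset.mem_filter.1 hg).2
      rw [hFeq, inv_one, mul_one, ← hl1, MonoidHom.mem_ker] at h6
      rw [h6, Units.val_one]
    rw [Finset.sum_congr rfl h5, Finset.sum_const, nsmul_eq_mul, mul_one] at h4
    have h7 : (1 : G) ∈ Finset.univ.filter (fun g : G => F g = F 1) := by simp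
    exact Finset.card_ne_zero_of_mem h7 (by exact_mod_cast h4)
  -- some ordinary character below `B` has a nonzero twisted sum
  have hex : ∃ ε ∈ below N B, tw N l (ε : N → ℂ) ≠ 0 := by
    by_contra hcon
    push Not at hcon
    have h3 := mem_ibrUnder_below hM hV N hi hBU hiB hO hj0
    have h4 : phi p j0 ∈ Submodule.span ℂ (phi p '' ibrUnder V (below N B)) :=
      Submodule.subset_span ⟨j0, h3, rfl⟩
    rw [← map_pReg_charSpan hM hV (isUnion_below hM N hi hBU)] at h4
    obtain ⟨f, hf, hf'⟩ := h4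
    have h5 : tw N l f = 0 := by
      unfold charSpan at hf
      clear hf'
      induction hf using Submodule.span_induction with
      | mem f hf =>
        obtain ⟨ε, hε, rfl⟩ := hf
        exact hcon ε hε
      | zero => exact map_zero _
      | add f g _ _ h1 h2 => rw [map_add, h1, h2, add_zero]
      | smul c f _ h1 => rw [map_smul, h1, smul_zero]
    apply hne0
    rw [← hf', tw_pReg, h5, map_zero]
  obtain ⟨ε, ⟨χ, hχB, hχε⟩, hε⟩ := hex
  refine ⟨l, χ, hχB, fun x hx => ?_, ?_, fun g => ?_⟩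
  · have h3 := hNT hx
    rwa [← hl1, MonoidHom.mem_ker] at h3
  · rw [hl2, hcard]
  · by_cases hg : l g = 1
    · rw [hg, Units.val_one, one_mul]
    · have h3 : g ∉ stab N (ε : N → ℂ) := fun h => hε (tw_eq_zero N l h hg)
      rw [vanish N hc hχε h3, mul_zero]

end

end Cfsg.Agent.H666.Clif
end

-- part: H666/Clif/Gall
section
/-!
# Blocks over a block of a normal subgroup with cyclic quotient

* `tl l χ`: the product of an irreducible character and a linear character;
* `exists_tl`: two irreducible characters over the same `ε` differ by a linear character of `G / N`;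
* `cover`: if `B` covers `B'`, every member of `B'` lies under a member of `B`.
-/

set_option autoImplicit false

open Cfsg IsLocalRing Module
open scoped ComplexConjugate
open Cfsg.Agent.H657 Cfsg.Agent.H577.GLB
open Cfsg.Agent.H608.BlockRank Cfsg.Agent.Blocks.Basic Cfsg.Agent.Blocks.Local

namespace Cfsg.Agent.H666.Clif

universe u

section

variable {G : Type u} [Group G] [Finite G] {p : ℕ} {M : Ideal AlgInt}

/-- The product with a linear character. -/
noncomputable def tl (l : G →* ℂˣ) (χ : IrrCharacter G) : IrrCharacter G :=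
  ⟨fun g => (l g : ℂ) * (χ : G → ℂ) g, by
    have := Fintype.ofFinite G
    exact OddOrderCharacters.AbelianTwist.isIrr_hom_mul l χ.2⟩

theorem tl_apply (l : G →* ℂˣ) (χ : IrrCharacter G) (g : G) :
    (tl l χ : G → ℂ) g = (l g : ℂ) * (χ : G → ℂ) g := rfl

theorem tl_tl (l m : G →* ℂˣ) (χ : IrrCharacter G) : tl l (tl m χ) = tl (l * m) χ := by
  apply Subtype.ext
  funext g
  rw [tl_apply, tl_apply, tl_apply, MonoidHom.mul_apply, Units.val_mul, mul_assoc]

theorem tl_one (χ : IrrCharacter G) : tl 1 χ = χ := by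
  apply Subtype.ext
  funext g
  rw [tl_apply, MonoidHom.one_apply, Units.val_one, one_mul]

theorem tl_inv_tl (l : G →* ℂˣ) (χ : IrrCharacter G) : tl l⁻¹ (tl l χ) = χ := by
  apply Subtype.ext
  funext g
  rw [tl_apply, tl_apply, MonoidHom.inv_apply, ← mul_assoc, ← Units.val_mul, inv_mul_cancel,
    Units.val_one, one_mul]

theorem tl_tl_inv (l : G →* ℂˣ) (χ : IrrCharacter G) : tl l (tl l⁻¹ χ) = χ := by
  apply Subtype.ext
  funext g
  rw [tl_apply, tl_apply, MonoidHom.inv_apply, ← mul_assoc, ← Units.val_mul, mul_inv_cancel,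
    Units.val_one, one_mul]

theorem tl_injective (l : G →* ℂˣ) : Function.Injective (tl l) := by
  intro χ ψ h
  rw [← tl_inv_tl l χ, h, tl_inv_tl]

theorem pow_lin (l : G →* ℂˣ) (g : G) : (l g) ^ Nat.card G = 1 := by
  rw [← map_pow, pow_card_eq_one', map_one]

theorem isIntegral_lin (l : G →* ℂˣ) (g : G) : IsIntegral ℤ (l g : ℂ) := by
  refine ⟨Polynomial.X ^ Nat.card G - 1, Polynomial.monic_X_pow_sub_C 1 Nat.card_pos.ne', ?_⟩
  have h := congrArg (Units.val) (pow_lin l g)
  rw [Units.val_pow_eq_pow_val, Units.val_one] at h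
  simp [h]

theorem centralChar_tl (l : G →* ℂˣ) (χ : IrrCharacter G) (g : G) :
    centralChar (tl l χ : G → ℂ) g = (l g : ℂ) * centralChar (χ : G → ℂ) g := by
  unfold centralChar
  rw [tl_apply, tl_apply, map_one, Units.val_one, one_mul]
  ring

theorem sameBlock_tl (hMp : M.IsPrime) (l : G →* ℂˣ) {χ ψ : IrrCharacter G}
    (h : SameBlock M (χ : G → ℂ) (ψ : G → ℂ)) :
    SameBlock M (tl l χ : G → ℂ) (tl l ψ : G → ℂ) := by
  intro g
  rw [centralChar_tl, centralChar_tl, ← mul_sub]
  exact Blocks.Covering.memLocalIdeal_mul_left hMp (memLocalRing_of_isIntegral (isIntegral_lin l g)) (h g)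

theorem sameBlock_tl_iff (hMp : M.IsPrime) (l : G →* ℂˣ) {χ ψ : IrrCharacter G} :
    SameBlock M (tl l χ : G → ℂ) (tl l ψ : G → ℂ) ↔ SameBlock M (χ : G → ℂ) (ψ : G → ℂ) := by
  refine ⟨fun h => ?_, sameBlock_tl hMp l⟩
  have := sameBlock_tl hMp l⁻¹ h
  rwa [tl_inv_tl, tl_inv_tl] at this

theorem image_tl_blockOf (hMp : M.IsPrime) (l : G →* ℂˣ) (χ : IrrCharacter G) :
    tl l '' blockOf M (χ : G → ℂ) = blockOf M (tl l χ : G → ℂ) := by
  ext ψ
  constructor
  · rintro ⟨η, hη, rfl⟩
    exact sameBlock_tl hMp l hη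
  · intro h
    refine ⟨tl l⁻¹ ψ, ?_, tl_tl_inv l ψ⟩
    have h1 : SameBlock M (tl l χ : G → ℂ) (ψ : G → ℂ) := h
    rw [← tl_tl_inv l ψ, sameBlock_tl_iff hMp] at h1
    exact h1

theorem isPBlock_tl (hMp : M.IsPrime) (l : G →* ℂˣ) {B : Set (IrrCharacter G)} (hB : IsPBlock M B) :
    IsPBlock M (tl l '' B) := by
  obtain ⟨χ, rfl⟩ := hB
  exact ⟨tl l χ, image_tl_blockOf hMp l χ⟩

theorem isUnion_of_isPBlock (hMp : M.IsPrime) {B : Set (IrrCharacter G)} (hB : IsPBlock M B) :
    IsUnion M B := fun _ _ h hχ => Blocks.Covering.mem_of_sameBlock hMp hB hχ h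

theorem ov_tl (N : Subgroup G) {l : G →* ℂˣ} (hl : ∀ x ∈ N, l x = 1) {χ : IrrCharacter G}
    {ε : IrrCharacter N} : Ov N (tl l χ) ε ↔ Ov N χ ε := by
  unfold Ov
  have : ∀ x : N, (tl l χ : G → ℂ) x * conj ((ε : N → ℂ) x) = (χ : G → ℂ) x * conj ((ε : N → ℂ) x) := by
    intro x
    rw [tl_apply, hl x x.2, Units.val_one, one_mul]
  simp only [this]

/-- Restrictions with a common constituent are not orthogonal. -/
theorem inner_ne_zero [Fintype G] (N : Subgroup G) [Fintype N] {χ ψ : IrrCharacter G} {ε : IrrCharacter N}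
    (h1 : Ov N χ ε) (h2 : Ov N ψ ε) :
    classInner (fun n : N => (χ : G → ℂ) n) (fun n : N => (ψ : G → ℂ) n) ≠ 0 := by
  classical
  have := Characters.Core.finite_irr (G := N)
  have := Fintype.ofFinite (IrrCharacter N)
  obtain ⟨a, ha, ha'⟩ := CharDeep.CliffordCorr.exists_nat_coeffs
    (Characters.Clifford.isCharacter_restrict N (Characters.Core.isIrr_isCharacter χ.2))
  obtain ⟨b, hb, hb'⟩ := CharDeep.CliffordCorr.exists_nat_coeffs
    (Characters.Clifford.isCharacter_restrict N (Characters.Core.isIrr_isCharacter ψ.2))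
  rw [ha, hb, Characters.Core.classInner_sum_smul_sum_smul]
  rw [ov_iff, ha' ε] at h1
  rw [ov_iff, hb' ε] at h2
  have h3 : ∑ η : IrrCharacter N, ((a η : ℂ) * conj (b η : ℂ)) = ((∑ η : IrrCharacter N, a η * b η : ℕ) : ℂ) := by
    push_cast
    refine Finset.sum_congr rfl fun η _ => ?_
    rw [Complex.conj_natCast]
  rw [h3]
  norm_cast at h1 h2 ⊢
  intro h0
  have h4 := Finset.sum_eq_zero_iff.1 h0 ε (Finset.mem_univ _)
  exact (mul_ne_zero h1 h2) h4

/-- **Gallagher** for cyclic quotients: characters over the same `ε` differ by a linear character. -/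
theorem exists_tl (N : Subgroup G) [N.Normal] (hc : IsCyclic (G ⧸ N)) {χ ψ : IrrCharacter G}
    {ε : IrrCharacter N} (h1 : Ov N χ ε) (h2 : Ov N ψ ε) :
    ∃ l : G →* ℂˣ, (∀ x ∈ N, l x = 1) ∧ ψ = tl l χ := by
  classical
  have := Fintype.ofFinite G
  have := Fintype.ofFinite N
  obtain ⟨l, hl1, hl2⟩ := exists_lin N hc (le_refl N)
  have hlN : ∀ x ∈ N, l x = 1 := fun x hx => by
    rw [← MonoidHom.mem_ker, hl1]
    exact hx
  by_contra hcon
  have h3 : ∀ k : ℕ, classInner (ψ : G → ℂ) (tl (l ^ k) χ : G → ℂ) = 0 := by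
    intro k
    refine Characters.Core.classInner_irr_ne ψ.2 (tl (l ^ k) χ).2 fun h => hcon ⟨l ^ k, fun x hx => ?_,
      Subtype.ext h⟩
    rw [MonoidHom.pow_apply, hlN x hx, one_pow]
  set n := orderOf l with hn
  have hn0 : n ≠ 0 := by rw [hl2]; exact Subgroup.index_ne_zero_of_finite
  have h4 : ∑ k ∈ Finset.range n, classInner (ψ : G → ℂ) (tl (l ^ k) χ : G → ℂ) = 0 :=
    Finset.sum_eq_zero fun k _ => h3 k
  have h5 : ∀ g : G, ∑ k ∈ Finset.range n, (ψ : G → ℂ) g * conj ((tl (l ^ k) χ : G → ℂ) g) =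
      if g ∈ N then (n : ℂ) * ((ψ : G → ℂ) g * conj ((χ : G → ℂ) g)) else 0 := by
    intro g
    have h6 : ∀ k, (ψ : G → ℂ) g * conj ((tl (l ^ k) χ : G → ℂ) g) =
        (conj (l g : ℂ)) ^ k * ((ψ : G → ℂ) g * conj ((χ : G → ℂ) g)) := by
      intro k
      rw [tl_apply, MonoidHom.pow_apply, Units.val_pow_eq_pow_val, map_mul, map_pow]
      ring
    simp only [h6]
    rw [← Finset.sum_mul]
    split_ifs with hg
    · rw [hlN g hg, Units.val_one, map_one]
      simp
    · have h7 : (conj (l g : ℂ)) ≠ 1 := by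
        intro h
        apply hg
        rw [← hl1, MonoidHom.mem_ker]
        apply Units.ext
        rw [Units.val_one]
        have := congrArg conj h
        rwa [Complex.conj_conj, map_one] at this
      have h8 : (conj (l g : ℂ)) ^ n = 1 := by
        rw [← map_pow, ← Units.val_pow_eq_pow_val, ← MonoidHom.pow_apply, hn, pow_orderOf_eq_one]
        simp
      have h9 := mul_geom_sum (conj (l g : ℂ)) n
      rw [h8, sub_self] at h9
      rw [(mul_eq_zero.1 h9).resolve_left (sub_ne_zero.2 h7), zero_mul]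
  have h6 : ∑ k ∈ Finset.range n, classInner (ψ : G → ℂ) (tl (l ^ k) χ : G → ℂ) =
      (Nat.card G : ℂ)⁻¹ * ((n : ℂ) * ∑ x : N, (ψ : G → ℂ) x * conj ((χ : G → ℂ) x)) := by
    unfold classInner
    rw [← Finset.mul_sum, Finset.sum_comm, Finset.sum_congr rfl fun g _ => h5 g, ← Finset.sum_filter,
      ← Finset.mul_sum]
    congr 2
    exact Finset.sum_subtype _ (by simp) _
  rw [h6] at h4
  have h7 := inner_ne_zero N h2 h1
  apply h7
  unfold classInner
  have hG : (Nat.card G : ℂ)⁻¹ ≠ 0 := inv_ne_zero (by exact_mod_cast Nat.card_pos.ne')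
  have h8 := (mul_eq_zero.1 h4).resolve_left hG
  have h9 := (mul_eq_zero.1 h8).resolve_left (by exact_mod_cast hn0)
  rw [h9, mul_zero]

end

end Cfsg.Agent.H666.Clif
end
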