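import Cfsg.Agent.H666.Clif.TwistIBr
import Cfsg.Agent.H649.Transport
import Cfsg.Agent.H112.Clif.Brauer
import Cfsg.Agent.H648.Dict
set_option linter.all false

-- part: H666/Clif/Conj
section
/-!
# Brauer characters over a covered block

* `exists_ibr_over`: if `B` covers the block of `ε`, every Brauer character of that block lies under a member of
  `IBr(B)`;
* `card_conj_mul_blockRank_le`: the number of conjugates of `B'` times its rank is at most the sum of the numbers of
  constituents.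
-/

set_option autoImplicit false

open Cfsg IsLocalRing Module
open scoped ComplexConjugate
open Cfsg.Agent.H657 Cfsg.Agent.H577.GLB
open Cfsg.Agent.H608.BlockRank Cfsg.Agent.Blocks.Basic Cfsg.Agent.Blocks.Local
open Cfsg.Agent.Blocks.Covering (conjIrr conjIrr_apply sameBlock_conjIrr conjIrr_conjIrr conjIrr_one)

namespace Cfsg.Agent.H666.Clif

universe u

section

variable {V : ValuationSubring ℂ} {G : Type u} [Group G] [Finite G] {p : ℕ} {M : Ideal AlgInt}

theorem restr_phi_mem' (hM : IsPModular p M) (hV : Above M V) (N : Subgroup G)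
    {B : Set (IrrCharacter G)} (hB : IsUnion M B) {A : Set (IrrCharacter N)} (hA : IsUnion M A)
    (hsub : below N B ⊆ A) {i : IBr V G} (hiB : i ∈ ibrUnder V B) :
    (fun n : N => phi p i n) ∈ Submodule.span ℂ (phi p '' ibrUnder V A) := by
  have h1 : phi p i ∈ Submodule.span ℂ (phi p '' ibrUnder V B) := Submodule.subset_span ⟨i, hiB, rfl⟩
  rw [← map_pReg_charSpan hM hV hB] at h1
  obtain ⟨f, hf, hf'⟩ := h1
  rw [← map_pReg_charSpan hM hV hA]
  have h2 : (fun n : N => f n) ∈ charSpan A := by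
    have h3 := restr_mem N B hf
    unfold charSpan at h3 ⊢
    exact Submodule.span_mono (Set.image_mono hsub) h3
  refine ⟨_, h2, ?_⟩
  rw [← hf']
  funext n
  by_cases h : IsPRegular p n
  · rw [pReg_of h, pReg_of ((pRegular_coe n).2 h)]
  · rw [pReg_of_not h, pReg_of_not (fun h' => h ((pRegular_coe n).1 h'))]

/-- The constituents of the restriction of a member of `IBr(B)` lie in any union of blocks containing the
characters below `B`. -/
theorem mem_ibrUnder_of (hM : IsPModular p M) (hV : Above M V) (N : Subgroup G)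
    {B : Set (IrrCharacter G)} (hB : IsUnion M B) {A : Set (IrrCharacter N)} (hA : IsUnion M A)
    (hsub : below N B ⊆ A) {i : IBr V G} (hiB : i ∈ ibrUnder V B) {O : Finset (IBr V N)}
    (hO : IsRes p N i O) {j : IBr V N} (hj : j ∈ O) : j ∈ ibrUnder V A := by
  classical
  have : Fact p.Prime := ⟨hM.1⟩
  have : CharP (ResidueField V) p := hV.charP hM
  have h1 := restr_phi_mem' hM hV N hB hA hsub hiB
  have h2 : (fun n : N => phi p i n) = ∑ j ∈ O, phi p j := by
    funext n
    rw [Finset.sum_apply]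
    exact hO n
  rw [h2] at h1
  by_contra hcon
  have hli := linearIndependent_phi (V := V) (G := N) (p := p)
  have h3 : phi p j ∈ Submodule.span ℂ (phi p '' ({j}ᶜ : Set (IBr V N))) := by
    have h4 : phi p j = ∑ j ∈ O, phi p j - ∑ j ∈ O.erase j, phi p j := by
      rw [← Finset.add_sum_erase O (fun j => phi p j) hj]
      abel
    rw [h4]
    refine Submodule.sub_mem _ (Submodule.span_mono (Set.image_mono ?_) h1) ?_
    · intro x hx hxj
      rw [Set.mem_singleton_iff] at hxj
      exact hcon (hxj ▸ hx)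
    · refine Submodule.sum_mem _ fun x hx => Submodule.subset_span ⟨x, ?_, rfl⟩
      exact fun h => (Finset.mem_erase.1 hx).1 h
  exact hli.notMem_span_image (s := ({j}ᶜ : Set (IBr V N))) (by simp) h3

theorem ibrUnder_tl (hM : IsPModular p M) (hV : Above M V) {B : Set (IrrCharacter G)} (hB : IsPBlock M B)
    {l : G →* ℂˣ} {i i' : IBr V G} (h : ∀ g, phi p i' g = (l g : ℂ) * phi p i g)
    (hi : i ∈ ibrUnder V B) : i' ∈ ibrUnder V (tl l '' B) := by
  have : Fact p.Prime := ⟨hM.1⟩
  have : CharP (ResidueField V) p := hV.charP hM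
  have hMp := isPrime_of_isPModular hM
  have h1 : phi p i ∈ Submodule.span ℂ (phi p '' ibrUnder V B) := Submodule.subset_span ⟨i, hi, rfl⟩
  rw [← map_pReg_charSpan hM hV (isUnion_of_isPBlock hMp hB)] at h1
  obtain ⟨f, hf, hf'⟩ := h1
  have h2 : phi p i' ∈ (charSpan (tl l '' B)).map (pReg p) := by
    refine ⟨fun g => (l g : ℂ) * f g, ?_, ?_⟩
    · change (fun g => (l g : ℂ) * f g) ∈ charSpan (tl l '' B)
      unfold charSpan at hf ⊢
      clear hf'
      induction hf using Submodule.span_induction with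
      | mem f hf =>
        obtain ⟨χ, hχ, rfl⟩ := hf
        exact Submodule.subset_span ⟨tl l χ, ⟨χ, hχ, rfl⟩, rfl⟩
      | zero =>
        have : (fun g => (l g : ℂ) * (0 : G → ℂ) g) = 0 := by
          funext g; simp
        rw [this]
        exact Submodule.zero_mem _
      | add f f' _ _ h1 h2 =>
        have : (fun g => (l g : ℂ) * (f + f') g) = (fun g => (l g : ℂ) * f g) + fun g => (l g : ℂ) * f' g := by
          funext g; simp [mul_add]
        rw [this]
        exact Submodule.add_mem _ h1 h2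
      | smul c f _ h1 =>
        have : (fun g => (l g : ℂ) * (c • f) g) = c • fun g => (l g : ℂ) * f g := by
          funext g; simp only [Pi.smul_apply, smul_eq_mul]; ring
        rw [this]
        exact Submodule.smul_mem _ c h1
    · funext g
      by_cases hg : IsPRegular p g
      · rw [pReg_of hg, h, ← hf', pReg_of hg]
      · rw [pReg_of_not hg, phi_of_not _ hg]
  rw [map_pReg_charSpan hM hV (isUnion_of_isPBlock hMp (isPBlock_tl hMp l hB))] at h2
  by_contra hcon
  exact (linearIndependent_phi (V := V) (G := G) (p := p)).notMem_span_image hcon h2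

/-- The union of the blocks meeting a set. -/
def clos (M : Ideal AlgInt) (A : Set (IrrCharacter G)) : Set (IrrCharacter G) :=
  {ε | ∃ ε' ∈ A, SameBlock M (ε' : G → ℂ) (ε : G → ℂ)}

omit [Finite G] in
theorem isUnion_clos (hMp : M.IsPrime) (A : Set (IrrCharacter G)) : IsUnion M (clos M A) := by
  rintro χ ψ h ⟨ε, hε, hs⟩
  exact ⟨ε, hε, Blocks.Covering.sameBlock_trans hMp hs h⟩

omit [Finite G] in
theorem subset_clos (hMp : M.IsPrime) (A : Set (IrrCharacter G)) : A ⊆ clos M A := by
  intro χ hχ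
  exact ⟨χ, hχ, Blocks.Induced.sameBlock_refl hMp _⟩

omit [Finite G] in
theorem eq_of_mem_mem (hMp : M.IsPrime) {B B' : Set (IrrCharacter G)} (hB : IsPBlock M B) (hB' : IsPBlock M B')
    {χ : IrrCharacter G} (h : χ ∈ B) (h' : χ ∈ B') : B = B' := by
  ext ψ
  constructor
  · intro hψ
    exact Blocks.Covering.mem_of_sameBlock hMp hB' h' (Blocks.Covering.sameBlock_of_mem hMp hB h hψ)
  · intro hψ
    exact Blocks.Covering.mem_of_sameBlock hMp hB h (Blocks.Covering.sameBlock_of_mem hMp hB' h' hψ)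

/-- If `B` covers the block of `ε`, every member of `IBr` of that block lies under a member of `IBr(B)`. -/
theorem exists_ibr_over (hM : IsPModular p M) (hV : Above M V) (N : Subgroup G) [N.Normal]
    (hc : IsCyclic (G ⧸ N))
    (hov : ∀ j : IBr V N, ∃ (i : IBr V G) (O : Finset (IBr V N)), IsRes p N i O ∧ j ∈ O)
    {B : Set (IrrCharacter G)} (hB : IsPBlock M B) {χ : IrrCharacter G} (hχ : χ ∈ B)
    {B' : Set (IrrCharacter N)} (hB' : IsPBlock M B') {ε : IrrCharacter N} (hε : ε ∈ B') (h : Ov N χ ε)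
    {j : IBr V N} (hj : j ∈ ibrUnder V B') :
    ∃ i ∈ ibrUnder V B, ∃ O : Finset (IBr V N), IsRes p N i O ∧ j ∈ O := by
  have hMp := isPrime_of_isPModular hM
  obtain ⟨i, O, hO, hjO⟩ := hov j
  obtain ⟨χ₀, hχ₀⟩ := exists_under hM hV i
  set B₁ := blockOf M (χ₀ : G → ℂ) with hB₁
  have hB₁p : IsPBlock M B₁ := ⟨χ₀, rfl⟩
  have hi : i ∈ ibrUnder V B₁ := ⟨χ₀, Blocks.Induced.sameBlock_refl hMp _, hχ₀⟩
  obtain ⟨ε₁, ⟨ε₂, ⟨χ₁, hχ₁, hχ₁ε⟩, hs⟩, hu⟩ := mem_ibrUnder_of hM hV N (isUnion_of_isPBlock hMp hB₁p)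
    (isUnion_clos hMp (below N B₁)) (subset_clos hMp _) hi hO hjO
  obtain ⟨ε₃, hε₃, hu₃⟩ := hj
  have hs2 : SameBlock M (ε : N → ℂ) (ε₂ : N → ℂ) :=
    Blocks.Covering.sameBlock_trans hMp (Blocks.Covering.sameBlock_of_mem hMp hB' hε hε₃)
      (Blocks.Covering.sameBlock_trans hMp (under_sameBlock hM hV ε₃.2 ε₁.2 hu₃ hu)
        (Blocks.Covering.sameBlock_symm hs))
  obtain ⟨ψ, hψB, hψ⟩ := cover hM N hc hB hχ h hs2
  obtain ⟨l, hl, hlψ⟩ := exists_tl N hc hχ₁ε hψ
  obtain ⟨i', hi'⟩ := exists_tw hM hV l i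
  refine ⟨i', ?_, O, fun x => ?_, hjO⟩
  · have h1 := ibrUnder_tl hM hV hB₁p hi' hi
    have h2 : tl l '' B₁ = B := eq_of_mem_mem hMp (isPBlock_tl hMp l hB₁p) hB
      (χ := ψ) ⟨χ₁, hχ₁, hlψ.symm⟩ hψB
    rwa [h2] at h1
  · rw [hi', hl x x.2, Units.val_one, one_mul]
    exact hO x

/-! ### Conjugates -/

theorem conjIrr_eq_irrMap (N : Subgroup G) [N.Normal] (g : G) (θ : IrrCharacter N) :
    conjIrr N g θ = H649.irrMap (MulAut.conjNormal (H := N) g).symm θ := by
  apply Subtype.ext
  funext n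
  rfl

theorem blockRank_conj (N : Subgroup G) [N.Normal] (g : G) (B' : Set (IrrCharacter N)) :
    blockRank p (conjIrr N g '' B') = blockRank p B' := by
  rw [← H649.blockRank_blkMap (MulAut.conjNormal (H := N) g).symm p B']
  congr 1

theorem conjIrr_inv (N : Subgroup G) [N.Normal] (g : G) (θ : IrrCharacter N) :
    conjIrr N g⁻¹ (conjIrr N g θ) = θ := by
  rw [conjIrr_conjIrr, mul_inv_cancel, conjIrr_one]

theorem conjIrr_inv' (N : Subgroup G) [N.Normal] (g : G) (θ : IrrCharacter N) :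
    conjIrr N g (conjIrr N g⁻¹ θ) = θ := by
  rw [conjIrr_conjIrr, inv_mul_cancel, conjIrr_one]

theorem isPBlock_conj (hMp : M.IsPrime) (N : Subgroup G) [N.Normal] (g : G) {B' : Set (IrrCharacter N)}
    (hB' : IsPBlock M B') : IsPBlock M (conjIrr N g '' B') := by
  obtain ⟨θ, rfl⟩ := hB'
  refine ⟨conjIrr N g θ, ?_⟩
  ext ψ
  constructor
  · rintro ⟨η, hη, rfl⟩
    exact sameBlock_conjIrr N g hη
  · intro h
    refine ⟨conjIrr N g⁻¹ ψ, ?_, conjIrr_inv' N g ψ⟩
    have h1 := sameBlock_conjIrr N g⁻¹ (θ := conjIrr N g θ) (ψ := ψ) h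
    rw [conjIrr_inv] at h1
    exact h1

theorem ov_conj (N : Subgroup G) [N.Normal] (g : G) {χ : IrrCharacter G} {ε : IrrCharacter N} (h : Ov N χ ε) :
    Ov N χ (conjIrr N g ε) := by
  have := Fintype.ofFinite G
  have := Fintype.ofFinite N
  rw [ov_iff] at h ⊢
  have h1 := Characters.Clifford.classInner_restrict_conjNormal (N := N)
    (Characters.Core.isIrr_isClassFunction χ.2) (ε : N → ℂ) g
  intro h0
  apply h
  rw [← h1]
  exact h0

/-- the conjugates of a block of `N` -/
def conjs (N : Subgroup G) [N.Normal] (B' : Set (IrrCharacter N)) : Set (Set (IrrCharacter N)) :=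
  {b | ∃ g : G, b = conjIrr N g '' B'}

/-- (2c): the number of conjugates of `B'` times its rank is at most the sum of the numbers of constituents. -/
theorem card_conj_mul_blockRank_le (hM : IsPModular p M) (hV : Above M V) (N : Subgroup G) [N.Normal]
    (hc : IsCyclic (G ⧸ N))
    (hov : ∀ j : IBr V N, ∃ (i : IBr V G) (O : Finset (IBr V N)), IsRes p N i O ∧ j ∈ O)
    {B : Set (IrrCharacter G)}
    (hB : IsPBlock M B) {B' : Set (IrrCharacter N)} (hB' : IsPBlock M B') (hcov : Cov N B B')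
    (O : IBr V G → Finset (IBr V N)) (hO : ∀ i ∈ ibrUnder V B, IsRes p N i (O i))
    [Fintype (ibrUnder V B)] :
    Set.ncard (conjs N B') * blockRank p B' ≤ ∑ i : ibrUnder V B, (O i).card := by
  classical
  have : Fact p.Prime := ⟨hM.1⟩
  have : CharP (ResidueField V) p := hV.charP hM
  have hMp := isPrime_of_isPModular hM
  have := Characters.Core.finite_irr (G := N)
  have hfin : (conjs N B').Finite := Set.toFinite _
  have hblk : ∀ b ∈ conjs N B', IsPBlock M b := by
    rintro _ ⟨g, rfl⟩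
    exact isPBlock_conj hMp N g hB'
  -- the rank of the union of the conjugates
  have h1 : blockRank p (⋃₀ (conjs N B')) = Set.ncard (conjs N B') * blockRank p B' := by
    have h2 := blockRank_sUnion hM (S := hfin.toFinset) (fun b hb => hblk b (hfin.mem_toFinset.1 hb))
    rw [Set.Finite.coe_toFinset] at h2
    rw [h2]
    have h3 : ∀ b ∈ hfin.toFinset, blockRank p b = blockRank p B' := by
      intro b hb
      obtain ⟨g, rfl⟩ := hfin.mem_toFinset.1 hb
      exact blockRank_conj N g B'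
    rw [Finset.sum_congr rfl h3, Finset.sum_const, smul_eq_mul, Set.ncard_eq_toFinset_card _ hfin]
  have hU : IsUnion M (⋃₀ (conjs N B')) := by
    rintro χ ψ h ⟨b, hb, hχ⟩
    exact ⟨b, hb, isUnion_of_isPBlock hMp (hblk b hb) χ ψ h hχ⟩
  rw [← h1, blockRank_eq_card hM hV hU]
  obtain ⟨χ, hχ, ε, hε, hne⟩ := hcov
  have hχε : Ov N χ ε := (ov_iff_cov N χ ε).2 hne
  have key : ∀ j ∈ ibrUnder V (⋃₀ (conjs N B')), ∃ i : ibrUnder V B, j ∈ O i := by
    rintro j ⟨η, ⟨b, ⟨g, rfl⟩, hη⟩, hu⟩
    obtain ⟨i, hi, Oi, hOi, hj⟩ := exists_ibr_over hM hV N hc hov hB hχ (isPBlock_conj hMp N g hB')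
      (ε := conjIrr N g ε) ⟨ε, hε, rfl⟩ (ov_conj N g hχε) ⟨η, hη, hu⟩
    refine ⟨⟨i, hi⟩, ?_⟩
    rw [isRes_unique hM hV N (hO i hi) hOi]
    exact hj
  have hsub : ibrUnder V (⋃₀ (conjs N B')) ⊆
      ((Finset.univ.biUnion fun i : ibrUnder V B => O i : Finset (IBr V N)) : Set (IBr V N)) := by
    intro j hj
    obtain ⟨i, hij⟩ := key j hj
    rw [Finset.mem_coe, Finset.mem_biUnion]
    exact ⟨i, Finset.mem_univ _, hij⟩
  refine le_trans ?_ (Finset.card_biUnion_le)
  rw [Nat.card_coe_set_eq, ← Set.ncard_coe_finset]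
  exact Set.ncard_le_ncard hsub (Finset.finite_toSet _)

end

end Cfsg.Agent.H666.Clif
end

-- part: H666/Clif/Main
section
/-!
# Final forms (P2, P3, (2c)) of the Clifford theory of Brauer characters and blocks
-/

set_option autoImplicit false

open Cfsg IsLocalRing Module
open scoped ComplexConjugate
open Cfsg.Agent.H657 Cfsg.Agent.H577.GLB

namespace Cfsg.Agent.H666.Clif

universe u

variable {V : ValuationSubring ℂ} {G : Type u} [Group G] [Finite G] {p : ℕ} {M : Ideal AlgInt}

/-- P2: the rank of a block of a normal subgroup of `p`-power index with cyclic quotient. -/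
theorem blockRank_le_sum (hM : IsPModular p M) (hV : Above M V) (N : Subgroup G) [N.Normal]
    (hc : IsCyclic (G ⧸ N)) {a : ℕ} (hi : Nat.card (G ⧸ N) = p ^ a) {B : Set (IrrCharacter G)}
    (hB : IsPBlock M B) {B' : Set (IrrCharacter N)} (hB' : IsPBlock M B') (hcov : Cov N B B')
    (O : IBr V G → Finset (IBr V N)) (hO : ∀ i ∈ ibrUnder V B, IsRes p N i (O i))
    [Fintype (ibrUnder V B)] :
    blockRank p B' ≤ ∑ i : ibrUnder V B, (O i).card :=
  blockRank_le_sum_of hM hV N hi (H112.Clif.exists_over hM hV N hc) hB hB' hcov O hO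

/-- P3: if the restriction of `i` has `k` constituents then some `χ` in the block is fixed by a linear character
of order `k` of `G / N`. -/
theorem exists_fixed (hM : IsPModular p M) (hV : Above M V) (N : Subgroup G) [N.Normal]
    (hc : IsCyclic (G ⧸ N)) {a : ℕ} (hi : Nat.card (G ⧸ N) = p ^ a) {B : Set (IrrCharacter G)}
    (hB : IsPBlock M B) (i : IBr V G) (hiB : i ∈ ibrUnder V B) (O : Finset (IBr V N)) (hO : IsRes p N i O) :
    ∃ (l : G →* ℂˣ) (χ : IrrCharacter G), χ ∈ B ∧ (∀ x ∈ N, l x = 1) ∧ orderOf l = O.card ∧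
      ∀ g, (l g : ℂ) * (χ : G → ℂ) g = (χ : G → ℂ) g :=
  exists_fixed_of hM hV N hc hi (H112.Clif.clifford_cyclic hM hV N hc) hB i hiB O hO

/-- (2c), any index. -/
theorem card_conjs_mul_blockRank_le (hM : IsPModular p M) (hV : Above M V) (N : Subgroup G) [N.Normal]
    (hc : IsCyclic (G ⧸ N)) {B : Set (IrrCharacter G)}
    (hB : IsPBlock M B) {B' : Set (IrrCharacter N)} (hB' : IsPBlock M B') (hcov : Cov N B B')
    (O : IBr V G → Finset (IBr V N)) (hO : ∀ i ∈ ibrUnder V B, IsRes p N i (O i))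
    [Fintype (ibrUnder V B)] :
    Set.ncard (conjs N B') * blockRank p B' ≤ ∑ i : ibrUnder V B, (O i).card :=
  card_conj_mul_blockRank_le hM hV N hc (H112.Clif.exists_over hM hV N hc) hB hB' hcov O hO

theorem blockRank_le_sum_gen (hM : IsPModular p M) (hV : Above M V) (N : Subgroup G) [N.Normal]
    (hc : IsCyclic (G ⧸ N)) {B : Set (IrrCharacter G)}
    (hB : IsPBlock M B) {B' : Set (IrrCharacter N)} (hB' : IsPBlock M B') (hcov : Cov N B B')
    (O : IBr V G → Finset (IBr V N)) (hO : ∀ i ∈ ibrUnder V B, IsRes p N i (O i))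
    [Fintype (ibrUnder V B)] :
    blockRank p B' ≤ ∑ i : ibrUnder V B, (O i).card := by
  refine le_trans ?_ (card_conjs_mul_blockRank_le hM hV N hc hB hB' hcov O hO)
  have := Characters.Core.finite_irr (G := N)
  have h1 : 0 < Set.ncard (conjs N B') := by
    rw [Set.ncard_pos (Set.toFinite _)]
    refine ⟨B', 1, ?_⟩
    ext χ
    constructor
    · intro h
      exact ⟨χ, h, Blocks.Covering.conjIrr_one N χ⟩
    · rintro ⟨η, hη, rfl⟩
      rwa [Blocks.Covering.conjIrr_one]
  exact Nat.le_mul_of_pos_left _ h1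

end Cfsg.Agent.H666.Clif
end

-- part: H666/Clif/Star
section
/-!
# (STAR): the Clifford inequality for a chain `S ≤ N ≤ G`
-/

set_option autoImplicit false

open Cfsg IsLocalRing Module
open scoped ComplexConjugate
open Cfsg.Agent.H657 Cfsg.Agent.H577.GLB
open Cfsg.Agent.H608.BlockRank Cfsg.Agent.Blocks.Basic Cfsg.Agent.Blocks.Local
open Cfsg.Agent.Blocks.Covering (conjIrr conjIrr_apply sameBlock_conjIrr conjIrr_conjIrr conjIrr_one)

namespace Cfsg.Agent.H666.Clif

universe u

section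

variable {V : ValuationSubring ℂ} {p : ℕ} {M : Ideal AlgInt}

/-- Transport of a Brauer character along an isomorphism. -/
theorem exists_comp {H K : Type*} [Group H] [Group K] (e : H ≃* K) (j : IBr V K) :
    ∃ j' : IBr V H, ∀ x, phi p j' x = phi p j (e x) := by
  let σ : Representation (ResidueField V) H (Fin j.deg → ResidueField V) := j.rep.comp e.toMonoidHom
  have hσ : ∀ x, σ x = j.rep (e x) := fun _ => rfl
  have hirr : σ.IsIrreducible := by
    let E : Subrepresentation σ ≃o Subrepresentation j.rep :=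
      { toFun := fun A => ⟨A.toSubmodule, fun g v hv => by
          have := A.apply_mem_toSubmodule (e.symm g) hv
          rwa [hσ, e.apply_symm_apply] at this⟩
        invFun := fun A => ⟨A.toSubmodule, fun g v hv => A.apply_mem_toSubmodule (e g) hv⟩
        left_inv := fun _ => rfl
        right_inv := fun _ => rfl
        map_rel_iff' := Iff.rfl }
    exact (OrderIso.isSimpleOrder_iff E).2 j.rep_irr
  have htr : ∀ x, LinearMap.trace (ResidueField V) _ (σ x) = j.1 (e x) := fun x => j.trace_rep (e x)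
  refine ⟨⟨fun x => j.1 (e x), j.deg, σ, hirr, htr⟩, fun x => ?_⟩
  have hreg : IsPRegular p x ↔ IsPRegular p (e x) := by
    unfold IsPRegular
    rw [e.orderOf_eq]
  by_cases hx : IsPRegular p x
  · rw [phi_eq_bc _ σ hirr htr hx, phi_of j (hreg.1 hx)]
    rfl
  · rw [phi_of_not _ hx, phi_of_not _ (fun h => hx (hreg.2 h))]

variable {G : Type u} [Group G] [Finite G]

/-- The number of constituents is the index of the stabilizer. -/
theorem card_eq_index (hM : IsPModular p M) (hV : Above M V) (N : Subgroup G) [N.Normal]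
    (hc : IsCyclic (G ⧸ N)) {O : Finset (IBr V N)}
    (h1 : ∀ j ∈ O, ∀ g : G, ∃ j' ∈ O, phi p j' = cj N g (phi p j))
    (h2 : ∀ j ∈ O, ∀ j' ∈ O, ∃ g : G, phi p j' = cj N g (phi p j)) {j0 : IBr V N} (hj0 : j0 ∈ O) :
    O.card = (stab N (phi p j0)).index := by
  classical
  have : Fact p.Prime := ⟨hM.1⟩
  have : CharP (ResidueField V) p := hV.charP hM
  have hinj : Function.Injective (fun j : IBr V N => phi p j) :=
    (linearIndependent_phi (V := V) (G := N) (p := p)).injective
  set T := stab N (phi p j0) with hT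
  have hNT : N ≤ T := le_stab N (phi_isClassFunction p j0)
  have hTn : T.Normal := normal_of_le N hc hNT
  choose F hF1 hF2 using h1 j0 hj0
  have hFeq : ∀ g h : G, F g = F h ↔ g * h⁻¹ ∈ T := by
    intro g h
    rw [hT, mem_stab, ← cj_cj]
    constructor
    · intro e
      rw [← hF2 g, e, hF2 h, cj_cj, mul_inv_cancel, cj_one]
    · intro e
      apply hinj
      change phi p (F g) = phi p (F h)
      rw [hF2, hF2]
      have h3 := congrArg (cj N h) e
      rw [cj_cj, cj_cj, inv_mul_cancel, mul_one] at h3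
      rw [h3]
  rw [Subgroup.index, ← Fintype.card_coe, ← Nat.card_eq_fintype_card]
  refine (Nat.card_congr (Equiv.ofBijective (Quotient.lift
    (s := QuotientGroup.leftRel T) (fun g : G => (⟨F g, hF1 g⟩ : O)) ?_) ⟨?_, ?_⟩)).symm
  · intro a b hab
    replace hab : a⁻¹ * b ∈ T := QuotientGroup.leftRel_apply.1 hab
    apply Subtype.ext
    rw [hFeq]
    have h4 := hTn.conj_mem _ (T.inv_mem hab) a
    have h5 : a * (a⁻¹ * b)⁻¹ * a⁻¹ = a * b⁻¹ := by group
    rwa [h5] at h4
  · intro a b hab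
    induction a using Quotient.inductionOn with | _ a
    induction b using Quotient.inductionOn with | _ b
    have h3 : F a = F b := congrArg Subtype.val hab
    rw [hFeq] at h3
    apply Quotient.sound
    refine QuotientGroup.leftRel_apply.2 ?_
    have h4 := hTn.conj_mem _ (T.inv_mem h3) b⁻¹
    have h5 : b⁻¹ * (a * b⁻¹)⁻¹ * b⁻¹⁻¹ = a⁻¹ * b := by group
    rwa [h5] at h4
  · rintro ⟨j, hj⟩
    obtain ⟨g, hg⟩ := h2 j0 hj0 j hj
    refine ⟨Quotient.mk _ g, ?_⟩
    apply Subtype.ext
    apply hinj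
    change phi p (F g) = phi p j
    rw [hF2, hg]

theorem cj_conjIrr (N : Subgroup G) [N.Normal] (g : G) (θ : IrrCharacter N) :
    cj N g (θ : N → ℂ) = (conjIrr N g θ : N → ℂ) := rfl

theorem pReg_cj (N : Subgroup G) [N.Normal] (g : G) (f : N → ℂ) :
    pReg p (cj N g f) = cj N g (pReg p f) := by
  funext x
  have hx : IsPRegular p (⟨g * x * g⁻¹, (inferInstance : N.Normal).conj_mem x x.2 g⟩ : N) ↔
      IsPRegular p x := by
    unfold IsPRegular
    rw [← Subgroup.orderOf_coe, ← Subgroup.orderOf_coe x]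
    have := (MulAut.conj g).orderOf_eq (x : G)
    rw [MulAut.conj_apply] at this
    rw [this]
  by_cases h : IsPRegular p x
  · rw [pReg_of h]
    exact (pReg_of (hx.2 h) _).symm
  · rw [pReg_of_not h]
    exact (pReg_of_not (fun h' => h (hx.1 h')) _).symm

theorem ibrUnder_conj (hM : IsPModular p M) (hV : Above M V) (N : Subgroup G) [N.Normal] (g : G)
    {c : Set (IrrCharacter N)} (hc : IsPBlock M c) {j j' : IBr V N} (h : phi p j' = cj N g (phi p j))
    (hj : j ∈ ibrUnder V c) : j' ∈ ibrUnder V (conjIrr N g '' c) := by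
  have : Fact p.Prime := ⟨hM.1⟩
  have : CharP (ResidueField V) p := hV.charP hM
  have hMp := isPrime_of_isPModular hM
  have h1 : phi p j ∈ Submodule.span ℂ (phi p '' ibrUnder V c) := Submodule.subset_span ⟨j, hj, rfl⟩
  rw [← map_pReg_charSpan hM hV (isUnion_of_isPBlock hMp hc)] at h1
  obtain ⟨f, hf, hf'⟩ := h1
  have h2 : phi p j' ∈ (charSpan (conjIrr N g '' c)).map (pReg p) := by
    refine ⟨cj N g f, ?_, ?_⟩
    · change cj N g f ∈ charSpan (conjIrr N g '' c)
      unfold charSpan at hf ⊢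
      clear hf'
      induction hf using Submodule.span_induction with
      | mem f hf =>
        obtain ⟨χ, hχ, rfl⟩ := hf
        exact Submodule.subset_span ⟨conjIrr N g χ, ⟨χ, hχ, rfl⟩, rfl⟩
      | zero => exact Submodule.zero_mem _
      | add f f' _ _ h1 h2 => exact Submodule.add_mem _ h1 h2
      | smul a f _ h1 => exact Submodule.smul_mem _ a h1
    · rw [pReg_cj, hf', h]
  rw [map_pReg_charSpan hM hV (isUnion_of_isPBlock hMp (isPBlock_conj hMp N g hc))] at h2
  by_contra hcon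
  exact (linearIndependent_phi (V := V) (G := N) (p := p)).notMem_span_image hcon h2

theorem eq_of_ibrUnder (hM : IsPModular p M) (hV : Above M V) {c c' : Set (IrrCharacter G)}
    (hc : IsPBlock M c) (hc' : IsPBlock M c') {j : IBr V G} (h : j ∈ ibrUnder V c)
    (h' : j ∈ ibrUnder V c') : c = c' := by
  have hMp := isPrime_of_isPModular hM
  obtain ⟨χ, hχ, h1⟩ := h
  obtain ⟨ψ, hψ, h2⟩ := h'
  exact eq_of_mem_mem hMp hc hc' (χ := ψ)
    (Blocks.Covering.mem_of_sameBlock hMp hc hχ (under_sameBlock hM hV χ.2 ψ.2 h1 h2)) hψ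

/-- The conjugate of a set of constituents. -/
theorem conjN_eq (N : Subgroup G) [N.Normal] (g : G) (c : Set (IrrCharacter N)) :
    H648.Dict.conjN N g c = conjIrr N g⁻¹ '' c := by
  unfold H648.Dict.conjN
  refine Set.image_congr fun θ _ => ?_
  apply Subtype.ext
  funext x
  refine congrArg (θ : N → ℂ) (Subtype.ext ?_)
  change g⁻¹ * (x : G) * g = g⁻¹ * (x : G) * g⁻¹⁻¹
  rw [inv_inv]

end

section

variable {V : ValuationSubring ℂ} {p : ℕ} {M : Ideal AlgInt} {G : Type u} [Group G] [Finite G]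

/-- W5 (STAR): `S ≤ N ≤ G` normal, `G / S` cyclic, `B` covers `c`, `c` covers `B'`, `Stab_G(c) = N`. -/
theorem star (hM : IsPModular p M) (hV : Above M V)
    (S N : Subgroup G) [S.Normal] [N.Normal] [Fintype N] (hSN : S ≤ N) (hcyc : IsCyclic (G ⧸ S))
    {B : Set (IrrCharacter G)} (hB : IsPBlock M B) {c : Set (IrrCharacter N)} (hc : IsPBlock M c)
    {B' : Set (IrrCharacter S)} (hB' : IsPBlock M B')
    (hBc : ∃ χ ∈ B, ∃ θ ∈ c, classInner (fun n : N => (χ : G → ℂ) n) (θ : N → ℂ) ≠ 0)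
    (hcB' : ∃ ε ∈ c, ∃ η ∈ B', ∑ᶠ x : S, (η : S → ℂ) x *
      (starRingEnd ℂ) ((ε : N → ℂ) ⟨x, hSN x.2⟩) ≠ 0)
    (hst : ∀ g : G, H648.Dict.conjN N g c = c → g ∈ N)
    (O : IBr V G → Finset (IBr V S))
    (hO : ∀ i ∈ ibrUnder V B, ∀ x : S, phi p i x = ∑ j ∈ O i, phi p j x)
    [Fintype (ibrUnder V B)] :
    blockRank p B' * N.index ≤ ∑ i : ibrUnder V B, (O i).card := by
  classical
  have : Fact p.Prime := ⟨hM.1⟩
  have : CharP (ResidueField V) p := hV.charP hM
  have := Fintype.ofFinite G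
  have hMp := isPrime_of_isPModular hM
  -- the groups
  set S' : Subgroup N := S.subgroupOf N with hS'
  have hS'n : S'.Normal := Subgroup.normal_subgroupOf
  have hGN : IsCyclic (G ⧸ N) := by
    let F : G ⧸ S →* G ⧸ N := QuotientGroup.map S N (MonoidHom.id G) (by
      intro x hx
      exact hSN hx)
    refine isCyclic_of_surjective F ?_
    intro y
    obtain ⟨g, rfl⟩ := QuotientGroup.mk_surjective y
    exact ⟨QuotientGroup.mk g, rfl⟩
  have hNS : IsCyclic (N ⧸ S') := by
    let F : N ⧸ S' →* G ⧸ S := QuotientGroup.map S' S N.subtype (by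
      intro x hx
      exact hx)
    refine isCyclic_of_injective F ?_
    rw [injective_iff_map_eq_one]
    intro y hy
    obtain ⟨n, rfl⟩ := QuotientGroup.mk_surjective y
    have h1 : (QuotientGroup.mk (n : G) : G ⧸ S) = 1 := hy
    rw [QuotientGroup.eq_one_iff] at h1
    rw [QuotientGroup.eq_one_iff]
    exact h1
  let e : S' ≃* S := Subgroup.subgroupOfEquivOfLe hSN
  have he : ∀ x : S', ((e x : S) : G) = ((x : N) : G) := fun x => rfl
  -- the block of `S'`
  set B'' : Set (IrrCharacter S') := H649.blkMap e.symm B' with hB''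
  have hB''p : IsPBlock M B'' := H649.isPBlock_blkMap hB'
  have hrank : blockRank p B'' = blockRank p B' := H649.blockRank_blkMap e.symm p B'
  -- Clifford theory
  choose P hPne hP hP1 hP2 using H112.Clif.clifford_cyclic (V := V) hM hV S' hNS
  have hcov : Cov S' c B'' := by
    obtain ⟨ε, hε, η, hη, hne⟩ := hcB'
    refine ⟨ε, hε, H649.irrMap e.symm η, ⟨η, hη, rfl⟩, ?_⟩
    have h1 : ∑ᶠ x : S', (H649.irrMap e.symm η : S' → ℂ) x * (starRingEnd ℂ) ((ε : N → ℂ) x) =
        ∑ᶠ x : S, (η : S → ℂ) x * (starRingEnd ℂ) ((ε : N → ℂ) ⟨x, hSN x.2⟩) := by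
      rw [← finsum_comp_equiv e.toEquiv]
      refine finsum_congr fun x => ?_
      rfl
    rw [h1]
    exact hne
  have := Fintype.ofFinite (ibrUnder V c)
  have hmain := blockRank_le_sum_gen hM hV S' hNS hc hB''p hcov P (fun i _ => hP i)
  rw [hrank] at hmain
  -- the Brauer characters of `G` over those of `c`
  obtain ⟨χ, hχ, θ, hθ, hχθ⟩ := hBc
  have hov : Ov N χ θ := (ov_iff N χ θ).2 hχθ
  choose Φ hΦ Q hQ hψQ using fun ψ : ibrUnder V c =>
    exists_ibr_over hM hV N hGN (H112.Clif.exists_over hM hV N hGN) hB hχ hc hθ hov ψ.2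
  have hQcl : ∀ ψ : ibrUnder V c,
      (∀ j ∈ Q ψ, ∀ g : G, ∃ j' ∈ Q ψ, phi p j' = cj N g (phi p j)) ∧
      (∀ j ∈ Q ψ, ∀ j' ∈ Q ψ, ∃ g : G, phi p j' = cj N g (phi p j)) := by
    intro ψ
    obtain ⟨O', -, h1, h2, h3⟩ := H112.Clif.clifford_cyclic (V := V) hM hV N hGN (Φ ψ)
    rw [isRes_unique hM hV N (hQ ψ) h1]
    exact ⟨h2, h3⟩
  -- the stabilizer
  have hstab : ∀ (ψ ψ' : ibrUnder V c) (g : G), phi p (ψ' : IBr V N) = cj N g (phi p (ψ : IBr V N)) →
      g ∈ N := by
    intro ψ ψ' g h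
    have h1 := ibrUnder_conj hM hV N g hc h ψ.2
    have h2 := eq_of_ibrUnder hM hV hc (isPBlock_conj hMp N g hc) ψ'.2 h1
    have h3 := hst g⁻¹ (by rw [conjN_eq, inv_inv, ← h2])
    exact (N.inv_mem_iff).1 h3
  have hinjphi : Function.Injective (fun j : IBr V N => phi p j) :=
    (linearIndependent_phi (V := V) (G := N) (p := p)).injective
  have hQcard : ∀ ψ : ibrUnder V c, (Q ψ).card = N.index := by
    intro ψ
    rw [card_eq_index hM hV N hGN (hQcl ψ).1 (hQcl ψ).2 (hψQ ψ)]
    congr 1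
    refine le_antisymm (fun g hg => hstab ψ ψ g ?_) (le_stab N (phi_isClassFunction p _))
    rw [mem_stab] at hg
    exact hg.symm
  -- injectivity
  have hΦinj : Function.Injective (fun ψ : ibrUnder V c => (⟨Φ ψ, hΦ ψ⟩ : ibrUnder V B)) := by
    intro ψ ψ' h
    have h1 : Φ ψ = Φ ψ' := congrArg Subtype.val h
    have h2 : Q ψ = Q ψ' := by
      have h3 := hQ ψ'
      rw [← h1] at h3
      exact isRes_unique hM hV N (hQ ψ) h3
    have h3 : (ψ' : IBr V N) ∈ Q ψ := by
      rw [h2]
      exact hψQ ψ'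
    obtain ⟨g, hg⟩ := (hQcl ψ).2 _ (hψQ ψ) _ h3
    have h4 := hstab ψ ψ' g hg
    rw [cj_classFun N (phi_isClassFunction p _) h4] at hg
    exact Subtype.ext (hinjphi hg.symm)
  -- transport from `S` to `S'`
  choose T hT using fun j : IBr V S => exists_comp (p := p) e j
  have hinjS : Function.Injective (fun j : IBr V S => phi p j) :=
    (linearIndependent_phi (V := V) (G := S) (p := p)).injective
  have hinjS' : Function.Injective (fun j : IBr V S' => phi p j) :=
    (linearIndependent_phi (V := V) (G := S') (p := p)).injective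
  have hTinj : Function.Injective T := by
    intro j j' h
    apply hinjS
    funext x
    have h1 := hT j (e.symm x)
    have h2 := hT j' (e.symm x)
    rw [h] at h1
    rw [h1, e.apply_symm_apply] at h2
    exact h2
  -- additivity of the numbers of constituents
  have hadd : ∀ ψ : ibrUnder V c, (O (Φ ψ)).card = ∑ ψ' ∈ Q ψ, (P ψ').card := by
    intro ψ
    have := Fintype.ofFinite (IBr V S')
    have h1 : ∑ j : IBr V S', ((if j ∈ (O (Φ ψ)).image T then (1 : ℂ) else 0) -
        (((Q ψ).filter (fun ψ' => j ∈ P ψ')).card : ℂ)) • phi p j = 0 := by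
      simp only [sub_smul]
      rw [Finset.sum_sub_distrib, sub_eq_zero]
      funext x
      have h2 : (∑ j : IBr V S', (if j ∈ (O (Φ ψ)).image T then (1 : ℂ) else 0) • phi p j) x =
          phi p (Φ ψ) ((x : N) : G) := by
        rw [Finset.sum_apply]
        simp only [Pi.smul_apply, smul_eq_mul, ite_mul, one_mul, zero_mul]
        rw [Finset.sum_ite_mem, Finset.univ_inter, Finset.sum_image (fun a _ b _ h => hTinj h)]
        have h3 := hO (Φ ψ) (hΦ ψ) (e x)
        rw [he] at h3
        rw [h3]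
        exact Finset.sum_congr rfl fun j _ => hT j x
      have h3 : (∑ j : IBr V S', (((Q ψ).filter (fun ψ' => j ∈ P ψ')).card : ℂ) • phi p j) x =
          phi p (Φ ψ) ((x : N) : G) := by
        rw [hQ ψ (x : N), Finset.sum_apply]
        have h4 : ∀ ψ' ∈ Q ψ, phi p ψ' (x : N) = ∑ j : IBr V S', if j ∈ P ψ' then phi p j x else 0 := by
          intro ψ' _
          rw [hP ψ' x, Finset.sum_ite_mem, Finset.univ_inter]
        rw [Finset.sum_congr rfl h4, Finset.sum_comm]
        refine Finset.sum_congr rfl fun j _ => ?_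
        rw [Pi.smul_apply, smul_eq_mul, ← Finset.sum_filter, Finset.sum_const, nsmul_eq_mul]
      rw [h2, h3]
    have h5 := Fintype.linearIndependent_iff.1 (linearIndependent_phi (V := V) (G := S') (p := p)) _ h1
    have h6 : ∀ j : IBr V S', (if j ∈ (O (Φ ψ)).image T then 1 else 0) =
        ((Q ψ).filter (fun ψ' => j ∈ P ψ')).card := by
      intro j
      have h7 := sub_eq_zero.1 (h5 j)
      split_ifs at h7 ⊢ <;> exact_mod_cast h7
    have h8 : (O (Φ ψ)).card = ∑ j : IBr V S', if j ∈ (O (Φ ψ)).image T then 1 else 0 := by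
      rw [Finset.sum_ite_mem, Finset.univ_inter, Finset.sum_const, smul_eq_mul, mul_one,
        Finset.card_image_of_injective _ hTinj]
    rw [h8, Finset.sum_congr rfl fun j _ => h6 j]
    have h9 : ∀ ψ' ∈ Q ψ, (P ψ').card = ∑ j : IBr V S', if j ∈ P ψ' then 1 else 0 := by
      intro ψ' _
      rw [Finset.sum_ite_mem, Finset.univ_inter, Finset.sum_const, smul_eq_mul, mul_one]
    rw [Finset.sum_congr rfl h9, Finset.sum_comm]
    refine Finset.sum_congr rfl fun j _ => ?_
    rw [← Finset.sum_filter, Finset.sum_const, smul_eq_mul, mul_one]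
  -- conjugate Brauer characters of `N` have the same number of constituents
  have hconj : ∀ (ψ ψ' : IBr V N) (g : G), phi p ψ' = cj N g (phi p ψ) → (P ψ').card = (P ψ).card := by
    intro ψ ψ' g h
    let τ : S' ≃* S' := (e.trans (MulAut.conjNormal (H := S) g)).trans e.symm
    have hτ : ∀ x : S', (((τ x : S') : N) : G) = g * ((x : N) : G) * g⁻¹ := fun x => rfl
    choose U hU using fun j : IBr V S' => exists_comp (p := p) τ j
    have hUinj : Function.Injective U := by
      intro j j' h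
      apply hinjS'
      funext x
      have h1 := hU j (τ.symm x)
      have h2 := hU j' (τ.symm x)
      rw [h] at h1
      rw [h1, τ.apply_symm_apply] at h2
      exact h2
    have h1 : IsRes p S' ψ' ((P ψ).image U) := by
      intro x
      rw [Finset.sum_image (fun a _ b _ h => hUinj h), h]
      have h2 : cj N g (phi p ψ) (x : N) = phi p ψ ((τ x : S') : N) := by
        unfold cj
        congr 1
      rw [h2, hP ψ (τ x)]
      exact Finset.sum_congr rfl fun j _ => (hU j x).symm
    rw [isRes_unique hM hV S' (hP ψ') h1, Finset.card_image_of_injective _ hUinj]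
  have hcard : ∀ ψ : ibrUnder V c, (O (Φ ψ)).card = N.index * (P ψ).card := by
    intro ψ
    rw [hadd ψ, ← hQcard ψ, ← smul_eq_mul, ← Finset.sum_const]
    refine Finset.sum_congr rfl fun ψ' hψ' => ?_
    obtain ⟨g, hg⟩ := (hQcl ψ).2 _ (hψQ ψ) _ hψ'
    exact hconj _ _ g hg
  calc blockRank p B' * N.index ≤ (∑ i : ibrUnder V c, (P i).card) * N.index :=
        Nat.mul_le_mul_right _ hmain
    _ = ∑ ψ : ibrUnder V c, (O ((⟨Φ ψ, hΦ ψ⟩ : ibrUnder V B) : IBr V G)).card := by
        rw [Finset.sum_mul]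
        refine Finset.sum_congr rfl fun ψ _ => ?_
        rw [hcard ψ, mul_comm]
    _ = ∑ i ∈ Finset.univ.image (fun ψ : ibrUnder V c => (⟨Φ ψ, hΦ ψ⟩ : ibrUnder V B)), (O i).card := by
        rw [Finset.sum_image (fun a _ b _ h => hΦinj h)]
    _ ≤ ∑ i : ibrUnder V B, (O i).card := Finset.sum_le_sum_of_subset (Finset.subset_univ _)

end

end Cfsg.Agent.H666.Clif
end

-- part: H666/Clif/Tower
section
/-!
# The number of constituents in a chain `S ≤ N ≤ G`
-/

set_option autoImplicit false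

open Cfsg IsLocalRing Module
open scoped ComplexConjugate
open Cfsg.Agent.H657 Cfsg.Agent.H577.GLB
open Cfsg.Agent.H608.BlockRank Cfsg.Agent.Blocks.Basic Cfsg.Agent.Blocks.Local

namespace Cfsg.Agent.H666.Clif

universe u

section

variable {G : Type u} [Group G] [Finite G]

theorem isCyclic_quot {S N : Subgroup G} [S.Normal] [N.Normal] (hSN : S ≤ N) (hcyc : IsCyclic (G ⧸ S)) :
    IsCyclic (G ⧸ N) := by
  let F : G ⧸ S →* G ⧸ N := QuotientGroup.map S N (MonoidHom.id G) (by
    intro x hx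
    exact hSN hx)
  refine isCyclic_of_surjective F ?_
  intro y
  obtain ⟨g, rfl⟩ := QuotientGroup.mk_surjective y
  exact ⟨QuotientGroup.mk g, rfl⟩

theorem isCyclic_sub {S N : Subgroup G} [hS : S.Normal] [N.Normal] (hcyc : IsCyclic (G ⧸ S)) :
    IsCyclic (N ⧸ S.subgroupOf N) := by
  let F : N ⧸ S.subgroupOf N →* G ⧸ S := QuotientGroup.map (S.subgroupOf N) S N.subtype (by
    intro x hx
    exact hx)
  refine isCyclic_of_injective F ?_
  rw [injective_iff_map_eq_one]
  intro y hy
  obtain ⟨n, rfl⟩ := QuotientGroup.mk_surjective y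
  have h1 : (QuotientGroup.mk (n : G) : G ⧸ S) = 1 := hy
  rw [QuotientGroup.eq_one_iff] at h1
  rw [QuotientGroup.eq_one_iff]
  exact h1

/-- The index of the kernel of a linear character is its order. -/
theorem index_ker (l : G →* ℂˣ) : l.ker.index = orderOf l := by
  classical
  have hfin : Finite l.range := by
    have : Finite (Set.range l) := Set.finite_range l
    exact this
  have hcyc : IsCyclic l.range := inferInstance
  rw [Subgroup.index_ker]
  refine Nat.dvd_antisymm ?_ ?_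
  · obtain ⟨c, hc⟩ := IsCyclic.exists_generator (α := l.range)
    obtain ⟨⟨_, g, rfl⟩, hg⟩ : ∃ x : l.range, x = c := ⟨c, rfl⟩
    have h1 : orderOf c = Nat.card l.range := orderOf_eq_card_of_forall_mem_zpowers hc
    rw [← h1]
    refine orderOf_dvd_of_pow_eq_one ?_
    rw [← hg]
    apply Subtype.ext
    rw [Subgroup.coe_pow, Subgroup.coe_one]
    change (l g) ^ orderOf l = 1
    rw [← MonoidHom.pow_apply, pow_orderOf_eq_one]
    rfl
  · refine orderOf_dvd_of_pow_eq_one ?_
    ext g
    have h1 : (⟨l g, g, rfl⟩ : l.range) ^ Nat.card l.range = 1 := pow_card_eq_one'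
    have h2 := congrArg (fun x : l.range => ((x : ℂˣ) : ℂ)) h1
    rw [MonoidHom.pow_apply]
    exact h2

end

section

variable {V : ValuationSubring ℂ} {p : ℕ} {M : Ideal AlgInt} {G : Type u} [Group G] [Finite G]

theorem card_dvd_index (hM : IsPModular p M) (hV : Above M V) (N : Subgroup G) [N.Normal]
    (hc : IsCyclic (G ⧸ N)) {φ : IBr V G} {Q : Finset (IBr V N)} (hQ : IsRes p N φ Q) :
    Q.card ∣ N.index := by
  obtain ⟨O', ⟨j0, hj0⟩, h1, h2, h3⟩ := H112.Clif.clifford_cyclic (V := V) hM hV N hc φ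
  obtain rfl := isRes_unique hM hV N hQ h1
  rw [card_eq_index hM hV N hc h2 h3 hj0]
  exact Subgroup.index_dvd_of_le (le_stab N (phi_isClassFunction p j0))

/-- **The number of constituents in a chain.** -/
theorem card_tower (hM : IsPModular p M) (hV : Above M V)
    (S N : Subgroup G) [S.Normal] [N.Normal] (hSN : S ≤ N) (hcyc : IsCyclic (G ⧸ S))
    {φ : IBr V G} {O : Finset (IBr V S)} (hO : IsRes p S φ O) {Q : Finset (IBr V N)} (hQ : IsRes p N φ Q)
    {ψ : IBr V N} (hψ : ψ ∈ Q) {P : Finset (IBr V (S.subgroupOf N))} (hP : IsRes p (S.subgroupOf N) ψ P) :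
    O.card = Q.card * P.card := by
  classical
  have : Fact p.Prime := ⟨hM.1⟩
  have : CharP (ResidueField V) p := hV.charP hM
  have := Fintype.ofFinite G
  have hMp := isPrime_of_isPModular hM
  set S' : Subgroup N := S.subgroupOf N with hS'
  have hS'n : S'.Normal := Subgroup.normal_subgroupOf
  have hGN : IsCyclic (G ⧸ N) := isCyclic_quot hSN hcyc
  have hNS : IsCyclic (N ⧸ S') := isCyclic_sub hcyc
  let e : S' ≃* S := Subgroup.subgroupOfEquivOfLe hSN
  have he : ∀ x : S', ((e x : S) : G) = ((x : N) : G) := fun x => rfl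
  choose R hRne hR hR1 hR2 using H112.Clif.clifford_cyclic (V := V) hM hV S' hNS
  have hQcl : (∀ j ∈ Q, ∀ j' ∈ Q, ∃ g : G, phi p j' = cj N g (phi p j)) := by
    obtain ⟨O', -, h1, h2, h3⟩ := H112.Clif.clifford_cyclic (V := V) hM hV N hGN φ
    rw [isRes_unique hM hV N hQ h1]
    exact h3
  choose T hT using fun j : IBr V S => exists_comp (p := p) e j
  have hinjS : Function.Injective (fun j : IBr V S => phi p j) :=
    (linearIndependent_phi (V := V) (G := S) (p := p)).injective
  have hinjS' : Function.Injective (fun j : IBr V S' => phi p j) :=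
    (linearIndependent_phi (V := V) (G := S') (p := p)).injective
  have hTinj : Function.Injective T := by
    intro j j' h
    apply hinjS
    funext x
    have h1 := hT j (e.symm x)
    have h2 := hT j' (e.symm x)
    rw [h] at h1
    rw [h1, e.apply_symm_apply] at h2
    exact h2
  have hadd : O.card = ∑ ψ' ∈ Q, (R ψ').card := by
    have := Fintype.ofFinite (IBr V S')
    have h1 : ∑ j : IBr V S', ((if j ∈ O.image T then (1 : ℂ) else 0) -
        ((Q.filter (fun ψ' => j ∈ R ψ')).card : ℂ)) • phi p j = 0 := by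
      simp only [sub_smul]
      rw [Finset.sum_sub_distrib, sub_eq_zero]
      funext x
      have h2 : (∑ j : IBr V S', (if j ∈ O.image T then (1 : ℂ) else 0) • phi p j) x =
          phi p φ ((x : N) : G) := by
        rw [Finset.sum_apply]
        simp only [Pi.smul_apply, smul_eq_mul, ite_mul, one_mul, zero_mul]
        rw [Finset.sum_ite_mem, Finset.univ_inter, Finset.sum_image (fun a _ b _ h => hTinj h)]
        have h3 := hO (e x)
        rw [he] at h3
        rw [h3]
        exact Finset.sum_congr rfl fun j _ => hT j x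
      have h3 : (∑ j : IBr V S', ((Q.filter (fun ψ' => j ∈ R ψ')).card : ℂ) • phi p j) x =
          phi p φ ((x : N) : G) := by
        rw [hQ (x : N), Finset.sum_apply]
        have h4 : ∀ ψ' ∈ Q, phi p ψ' (x : N) = ∑ j : IBr V S', if j ∈ R ψ' then phi p j x else 0 := by
          intro ψ' _
          rw [hR ψ' x, Finset.sum_ite_mem, Finset.univ_inter]
        rw [Finset.sum_congr rfl h4, Finset.sum_comm]
        refine Finset.sum_congr rfl fun j _ => ?_
        rw [Pi.smul_apply, smul_eq_mul, ← Finset.sum_filter, Finset.sum_const, nsmul_eq_mul]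
      rw [h2, h3]
    have h5 := Fintype.linearIndependent_iff.1 (linearIndependent_phi (V := V) (G := S') (p := p)) _ h1
    have h6 : ∀ j : IBr V S', (if j ∈ O.image T then 1 else 0) =
        (Q.filter (fun ψ' => j ∈ R ψ')).card := by
      intro j
      have h7 := sub_eq_zero.1 (h5 j)
      split_ifs at h7 ⊢ <;> exact_mod_cast h7
    have h8 : O.card = ∑ j : IBr V S', if j ∈ O.image T then 1 else 0 := by
      rw [Finset.sum_ite_mem, Finset.univ_inter, Finset.sum_const, smul_eq_mul, mul_one,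
        Finset.card_image_of_injective _ hTinj]
    rw [h8, Finset.sum_congr rfl fun j _ => h6 j]
    have h9 : ∀ ψ' ∈ Q, (R ψ').card = ∑ j : IBr V S', if j ∈ R ψ' then 1 else 0 := by
      intro ψ' _
      rw [Finset.sum_ite_mem, Finset.univ_inter, Finset.sum_const, smul_eq_mul, mul_one]
    rw [Finset.sum_congr rfl h9, Finset.sum_comm]
    refine Finset.sum_congr rfl fun j _ => ?_
    rw [← Finset.sum_filter, Finset.sum_const, smul_eq_mul, mul_one]
  have hconj : ∀ (ψ ψ' : IBr V N) (g : G), phi p ψ' = cj N g (phi p ψ) → (R ψ').card = (R ψ).card := by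
    intro ψ ψ' g h
    let τ : S' ≃* S' := (e.trans (MulAut.conjNormal (H := S) g)).trans e.symm
    have hτ : ∀ x : S', (((τ x : S') : N) : G) = g * ((x : N) : G) * g⁻¹ := fun x => rfl
    choose U hU using fun j : IBr V S' => exists_comp (p := p) τ j
    have hUinj : Function.Injective U := by
      intro j j' h
      apply hinjS'
      funext x
      have h1 := hU j (τ.symm x)
      have h2 := hU j' (τ.symm x)
      rw [h] at h1
      rw [h1, τ.apply_symm_apply] at h2
      exact h2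
    have h1 : IsRes p S' ψ' ((R ψ).image U) := by
      intro x
      rw [Finset.sum_image (fun a _ b _ h => hUinj h), h]
      have h2 : cj N g (phi p ψ) (x : N) = phi p ψ ((τ x : S') : N) := by
        unfold cj
        congr 1
      rw [h2, hR ψ (τ x)]
      exact Finset.sum_congr rfl fun j _ => (hU j x).symm
    rw [isRes_unique hM hV S' (hR ψ') h1, Finset.card_image_of_injective _ hUinj]
  rw [hadd, isRes_unique hM hV S' hP (hR ψ), ← smul_eq_mul, ← Finset.sum_const]
  refine Finset.sum_congr rfl fun ψ' hψ' => ?_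
  obtain ⟨g, hg⟩ := hQcl _ hψ _ hψ'
  exact hconj _ _ g hg

end

end Cfsg.Agent.H666.Clif
end

-- part: H666/Clif/Desc
section
/-!
# The descent inequality

`S` normal in `G`, `G / S` cyclic, `B` a block of `G` covering the block `B'` of `S`.

* `pKer S p`: the intersection of the kernels of the linear characters of `G / S` of `p`-power order;
* `APrime S p`: the linear characters of `G / S` of order prime to `p`;
* `card_split`: the number of constituents on `S` is the number of linear characters of order prime to `p` fixing `φ`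
  times the number of constituents on `pKer S p`;
* `desc_le`, `desc_le_fix`: the descent inequality.
-/

set_option autoImplicit false

open Cfsg IsLocalRing Module
open scoped ComplexConjugate
open Cfsg.Agent.H657 Cfsg.Agent.H577.GLB
open Cfsg.Agent.H608.BlockRank Cfsg.Agent.Blocks.Basic Cfsg.Agent.Blocks.Local

namespace Cfsg.Agent.H666.Clif

universe u

section

variable {G : Type u} [Group G] [Finite G]

/-- the intersection of the kernels of the linear characters of `G / S` of `p`-power order -/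
def pKer (S : Subgroup G) (p : ℕ) : Subgroup G where
  carrier := {g | ∀ l : G →* ℂˣ, (∀ x ∈ S, l x = 1) → (∃ j : ℕ, orderOf l = p ^ j) → l g = 1}
  one_mem' := fun l _ _ => map_one l
  mul_mem' := fun ha hb l h1 h2 => by rw [map_mul, ha l h1 h2, hb l h1 h2, one_mul]
  inv_mem' := fun ha l h1 h2 => by rw [map_inv, ha l h1 h2, inv_one]

/-- the linear characters of `G / S` of order prime to `p` -/
abbrev APrime (S : Subgroup G) (p : ℕ) := {l : G →* ℂˣ // (∀ x ∈ S, l x = 1) ∧ (orderOf l).Coprime p}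

theorem mem_pKer {S : Subgroup G} {p : ℕ} {g : G} : g ∈ pKer S p ↔
    ∀ l : G →* ℂˣ, (∀ x ∈ S, l x = 1) → (∃ j : ℕ, orderOf l = p ^ j) → l g = 1 := Iff.rfl

theorem le_pKer (S : Subgroup G) (p : ℕ) : S ≤ pKer S p := fun x hx l h1 _ => h1 x hx

instance pKer_normal (S : Subgroup G) (p : ℕ) : (pKer S p).Normal := by
  refine ⟨fun x hx g l h1 h2 => ?_⟩
  rw [map_mul, map_mul, hx l h1 h2, mul_one, map_inv, mul_inv_cancel]

theorem exists_split (S : Subgroup G) [S.Normal] (hcyc : IsCyclic (G ⧸ S)) {p : ℕ} (hp : p.Prime) :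
    ∃ (lp lq : G →* ℂˣ) (a m : ℕ), S.index = p ^ a * m ∧ m.Coprime p ∧ orderOf lp = p ^ a ∧
      orderOf lq = m ∧ pKer S p = lp.ker ∧ S ≤ lq.ker ∧
      ∀ l : G →* ℂˣ, ((∀ x ∈ S, l x = 1) ∧ (orderOf l).Coprime p) ↔ ∀ x ∈ lq.ker, l x = 1 := by
  obtain ⟨l0, hl0, ho⟩ := exists_lin S hcyc (le_refl S)
  have hne : S.index ≠ 0 := Subgroup.index_ne_zero_of_finite
  obtain ⟨a, m, hm, ham⟩ := Nat.exists_eq_pow_mul_and_not_dvd hne p hp.ne_one
  have hmc : m.Coprime p := ((Nat.Prime.coprime_iff_not_dvd hp).2 hm).symm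
  have hm0 : m ≠ 0 := fun h => hne (by rw [ham, h, mul_zero])
  have hpa0 : p ^ a ≠ 0 := pow_ne_zero _ hp.ne_zero
  have hl0S : ∀ x ∈ S, l0 x = 1 := fun x hx => by
    rw [← MonoidHom.mem_ker, hl0]
    exact hx
  have hlp : orderOf (l0 ^ m) = p ^ a := by
    rw [orderOf_pow_of_dvd hm0 (by rw [ho, ham]; exact Dvd.intro_left _ rfl), ho, ham,
      Nat.mul_div_cancel _ (Nat.pos_of_ne_zero hm0)]
  have hlq : orderOf (l0 ^ p ^ a) = m := by
    rw [orderOf_pow_of_dvd hpa0 (by rw [ho, ham]; exact Dvd.intro _ rfl), ho, ham,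
      Nat.mul_div_cancel_left _ (Nat.pos_of_ne_zero hpa0)]
  have hquot : ∀ (l : G →* ℂˣ), (∀ x ∈ S, l x = 1) → ∀ g : G, l0 g = 1 → l g = 1 := by
    intro l hl g hg
    apply hl
    rw [← hl0, MonoidHom.mem_ker]
    exact hg
  -- elements of the kernel of a power
  refine ⟨l0 ^ m, l0 ^ p ^ a, a, m, ham, hmc, hlp, hlq, ?_, ?_, ?_⟩
  · apply le_antisymm
    · intro g hg
      rw [MonoidHom.mem_ker]
      refine hg _ (fun x hx => ?_) ⟨a, hlp⟩
      rw [MonoidHom.pow_apply, hl0S x hx, one_pow]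
    · intro g hg l hl hj
      obtain ⟨j, hj⟩ := hj
      rw [MonoidHom.mem_ker, MonoidHom.pow_apply] at hg
      -- `g ^ m ∈ S`
      have h1 : l (g ^ m) = 1 := hquot l hl _ (by rw [map_pow]; exact hg)
      rw [map_pow] at h1
      have h2 : (l g) ^ p ^ j = 1 := by
        rw [← MonoidHom.pow_apply, ← hj, pow_orderOf_eq_one]
        rfl
      have h3 : orderOf (l g) ∣ m := orderOf_dvd_of_pow_eq_one h1
      have h4 : orderOf (l g) ∣ p ^ j := orderOf_dvd_of_pow_eq_one h2
      exact orderOf_eq_one_iff.1 (Nat.eq_one_of_dvd_coprimes (Nat.Coprime.pow_right j hmc) h3 h4)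
  · intro x hx
    rw [MonoidHom.mem_ker, MonoidHom.pow_apply, hl0S x hx, one_pow]
  · intro l
    constructor
    · rintro ⟨hl, hc⟩ x hx
      rw [MonoidHom.mem_ker, MonoidHom.pow_apply] at hx
      have h1 : l (x ^ p ^ a) = 1 := hquot l hl _ (by rw [map_pow]; exact hx)
      rw [map_pow] at h1
      have h2 : (l x) ^ orderOf l = 1 := by
        rw [← MonoidHom.pow_apply, pow_orderOf_eq_one]
        rfl
      exact orderOf_eq_one_iff.1 (Nat.eq_one_of_dvd_coprimes (Nat.Coprime.pow_left a hc.symm)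
        (orderOf_dvd_of_pow_eq_one h1) (orderOf_dvd_of_pow_eq_one h2))
    · intro h
      refine ⟨fun x hx => h x ?_, ?_⟩
      · rw [MonoidHom.mem_ker, MonoidHom.pow_apply, hl0S x hx, one_pow]
      · refine Nat.Coprime.coprime_dvd_left (orderOf_dvd_of_pow_eq_one (n := m) ?_) hmc
        ext g
        rw [MonoidHom.pow_apply, ← map_pow]
        rw [h]
        · rfl
        · rw [MonoidHom.mem_ker, map_pow, ← MonoidHom.pow_apply, ← hlq, pow_orderOf_eq_one]
          rfl

theorem finite_APrime (S : Subgroup G) (p : ℕ) (hS : S.Normal) (hcyc : IsCyclic (G ⧸ S)) :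
    Finite (APrime S p) := by
  have : Finite (G →* ℂˣ) := by
    have h1 : ∀ (l : G →* ℂˣ) (g : G), (l g : ℂ) ∈ Polynomial.nthRootsFinset (Nat.card G) (1 : ℂ) := by
      intro l g
      rw [Polynomial.mem_nthRootsFinset Nat.card_pos, ← Units.val_pow_eq_pow_val, pow_lin, Units.val_one]
    let f : (G →* ℂˣ) → (G → Polynomial.nthRootsFinset (Nat.card G) (1 : ℂ)) := fun l g => ⟨_, h1 l g⟩
    refine Finite.of_injective f ?_
    intro l l' h
    ext g
    exact congrArg Subtype.val (congrFun h g)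
  infer_instance

end

section

variable {V : ValuationSubring ℂ} {p : ℕ} {M : Ideal AlgInt} {G : Type u} [Group G] [Finite G]

/-- The number of constituents on `S`. -/
theorem card_split (hM : IsPModular p M) (hV : Above M V) (S : Subgroup G) [S.Normal]
    (hcyc : IsCyclic (G ⧸ S)) {φ : IBr V G} {O : Finset (IBr V S)} (hO : IsRes p S φ O)
    {Q : Finset (IBr V (pKer S p))} (hQ : IsRes p (pKer S p) φ Q) :
    O.card = Nat.card {l : G →* ℂˣ // ((∀ x ∈ S, l x = 1) ∧ (orderOf l).Coprime p) ∧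
      (fun g => (l g : ℂ) * phi p φ g) = phi p φ} * Q.card := by
  classical
  obtain ⟨lp, lq, a, m, ham, hmc, hlp, hlq, hK, hSq, hchar⟩ := exists_split S hcyc hM.1
  have hSK : S ≤ (pKer S p) := le_pKer S p
  set T := lq.ker with hT
  have hKi : (pKer S p).index = p ^ a := by rw [hK, index_ker, hlp]
  have hTi : T.index = m := by rw [hT, index_ker, hlq]
  have hGK : IsCyclic (G ⧸ (pKer S p)) := isCyclic_quot hSK hcyc
  have hGT : IsCyclic (G ⧸ T) := isCyclic_quot hSq hcyc
  have hpa : 0 < p ^ a := Nat.pos_of_ne_zero (pow_ne_zero _ hM.1.ne_zero)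
  have hm0 : 0 < m := by
    rcases Nat.eq_zero_or_pos m with h | h
    · exfalso
      rw [h, mul_zero] at ham
      exact Subgroup.index_ne_zero_of_finite ham
    · exact h
  have hSK' : (S.subgroupOf (pKer S p)).index = m := by
    have h1 := Subgroup.relIndex_mul_index hSK
    rw [hKi, ham, mul_comm] at h1
    exact Nat.eq_of_mul_eq_mul_left hpa h1
  have hST' : (S.subgroupOf T).index = p ^ a := by
    have h1 := Subgroup.relIndex_mul_index hSq
    rw [hTi, ham] at h1
    exact Nat.eq_of_mul_eq_mul_right hm0 h1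
  -- constituents on `T`
  obtain ⟨Q₁, ⟨ψ₁, hψ₁⟩, hQ₁, -, -⟩ := H112.Clif.clifford_cyclic (V := V) hM hV T hGT φ
  obtain ⟨Q', ⟨ψ, hψ⟩, hQ', -, -⟩ := H112.Clif.clifford_cyclic (V := V) hM hV (pKer S p) hGK φ
  rw [isRes_unique hM hV (pKer S p) hQ' hQ] at hψ
  have : (S.subgroupOf T).Normal := Subgroup.normal_subgroupOf
  have : (S.subgroupOf (pKer S p)).Normal := Subgroup.normal_subgroupOf
  obtain ⟨P₁, -, hP₁, -, -⟩ := H112.Clif.clifford_cyclic (V := V) hM hV (S.subgroupOf T)
    (isCyclic_sub hcyc) ψ₁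
  obtain ⟨P, -, hP, -, -⟩ := H112.Clif.clifford_cyclic (V := V) hM hV (S.subgroupOf (pKer S p))
    (isCyclic_sub hcyc) ψ
  have e1 := card_tower hM hV S T hSq hcyc hO hQ₁ hψ₁ hP₁
  have e2 := card_tower hM hV S (pKer S p) hSK hcyc hO hQ hψ hP
  have d1 : Q₁.card ∣ m := hTi ▸ card_dvd_index hM hV T hGT hQ₁
  have d2 : P₁.card ∣ p ^ a := hST' ▸ card_dvd_index hM hV (S.subgroupOf T) (isCyclic_sub hcyc) hP₁
  have d3 : Q.card ∣ p ^ a := hKi ▸ card_dvd_index hM hV (pKer S p) hGK hQ
  have d4 : P.card ∣ m := hSK' ▸ card_dvd_index hM hV (S.subgroupOf (pKer S p)) (isCyclic_sub hcyc) hP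
  have hcop : m.Coprime (p ^ a) := Nat.Coprime.pow_right a hmc
  have hPQ : P₁.card = Q.card := by
    have h1 : Q₁.card * P₁.card = Q.card * P.card := e1.symm.trans e2
    refine Nat.dvd_antisymm ?_ ?_
    · have h2 : P₁.card ∣ Q.card * P.card := h1 ▸ Dvd.intro_left _ rfl
      exact (Nat.Coprime.dvd_of_dvd_mul_right
        (Nat.Coprime.coprime_dvd_left d2 (Nat.Coprime.coprime_dvd_right d4 hcop.symm)) h2)
    · have h2 : Q.card ∣ Q₁.card * P₁.card := h1 ▸ Dvd.intro _ rfl
      exact (Nat.Coprime.dvd_of_dvd_mul_left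
        (Nat.Coprime.coprime_dvd_left d3 (Nat.Coprime.coprime_dvd_right d1 hcop.symm)) h2)
  have h3 := H112.Clif.card_res hM hV T hGT (by
    rw [← Subgroup.index, hTi]
    exact hmc) φ Q₁ hQ₁
  rw [e1, hPQ, h3]
  congr 1
  exact Nat.card_congr (Equiv.subtypeEquivRight fun l => and_congr (hchar l).symm Iff.rfl)

/-- A character over an irreducible character of an intermediate subgroup. -/
theorem exists_between [Fintype G] (S N : Subgroup G) [Fintype S] [Fintype N] (hSN : S ≤ N)
    {χ : IrrCharacter G} {η : IrrCharacter S} (h : Ov S χ η) :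
    ∃ θ : IrrCharacter N, Ov N χ θ ∧ ∑ᶠ x : S, (η : S → ℂ) x *
      (starRingEnd ℂ) ((θ : N → ℂ) ⟨x, hSN x.2⟩) ≠ 0 := by
  classical
  have := Characters.Core.finite_irr (G := N)
  have := Fintype.ofFinite (IrrCharacter N)
  obtain ⟨c, hc, hc'⟩ := CharDeep.CliffordCorr.exists_nat_coeffs
    (Characters.Clifford.isCharacter_restrict N (Characters.Core.isIrr_isCharacter χ.2))
  by_contra hcon
  push Not at hcon
  rw [ov_iff_cov] at h
  apply h
  have h1 : ∀ x : S, (χ : G → ℂ) x = ∑ θ : IrrCharacter N, (c θ : ℂ) * (θ : N → ℂ) ⟨x, hSN x.2⟩ := by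
    intro x
    have h2 := congrFun hc ⟨x, hSN x.2⟩
    rw [Finset.sum_apply] at h2
    exact h2
  rw [finsum_eq_sum_of_fintype]
  have h3 : ∀ x : S, (η : S → ℂ) x * (starRingEnd ℂ) ((χ : G → ℂ) x) =
      ∑ θ : IrrCharacter N, (c θ : ℂ) * ((η : S → ℂ) x * (starRingEnd ℂ) ((θ : N → ℂ) ⟨x, hSN x.2⟩)) := by
    intro x
    rw [h1, map_sum, Finset.mul_sum]
    refine Finset.sum_congr rfl fun θ _ => ?_
    rw [map_mul, Complex.conj_natCast]
    ring
  rw [Finset.sum_congr rfl fun x _ => h3 x, Finset.sum_comm]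
  refine Finset.sum_eq_zero fun θ _ => ?_
  rw [← Finset.mul_sum]
  by_cases h0 : c θ = 0
  · rw [h0, Nat.cast_zero, zero_mul]
  · have h4 := hcon θ (by
      rw [ov_iff, hc']
      exact_mod_cast h0)
    rw [finsum_eq_sum_of_fintype] at h4
    rw [h4, mul_zero]

/-- **The descent inequality.** -/
theorem desc_le (hM : IsPModular p M) (hV : Above M V) (S : Subgroup G) [S.Normal]
    (hcyc : IsCyclic (G ⧸ S)) {B : Set (IrrCharacter G)} (hB : IsPBlock M B)
    {B' : Set (IrrCharacter S)} (hB' : IsPBlock M B') (hcov : Cov S B B')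
    (Z : G →* ℂˣ) (hZS : ∀ x ∈ S, Z x = 1) [Fintype Z.ker]
    (hZ : ∀ c : Set (IrrCharacter Z.ker), IsPBlock M c →
      (∃ χ ∈ B, ∃ θ ∈ c, classInner (fun n : Z.ker => (χ : G → ℂ) n) (θ : Z.ker → ℂ) ≠ 0) →
      ∀ g : G, H648.Dict.conjN Z.ker g c = c → Z g = 1)
    [Fintype (ibrUnder V B)] (Q : IBr V G → Finset (IBr V (pKer S p)))
    (hQ : ∀ i ∈ ibrUnder V B, IsRes p (pKer S p) i (Q i)) :
    blockRank p B' * orderOf Z ≤ ∑ i : ibrUnder V B,
      Nat.card {l : G →* ℂˣ // ((∀ x ∈ S, l x = 1) ∧ (orderOf l).Coprime p) ∧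
        (fun g => (l g : ℂ) * phi p (i : IBr V G) g) = phi p (i : IBr V G)} * (Q i).card := by
  classical
  have := Fintype.ofFinite G
  have := Fintype.ofFinite S
  have hMp := isPrime_of_isPModular hM
  have hSN : S ≤ Z.ker := fun x hx => hZS x hx
  obtain ⟨χ, hχ, η, hη, hne⟩ := hcov
  obtain ⟨θ, hθ, hθη⟩ := exists_between S Z.ker hSN ((ov_iff_cov S χ η).2 hne)
  choose O hOne hO hO1 hO2 using H112.Clif.clifford_cyclic (V := V) hM hV S hcyc
  have hc : IsPBlock M (blockOf M (θ : Z.ker → ℂ)) := ⟨θ, rfl⟩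
  have hθc : θ ∈ blockOf M (θ : Z.ker → ℂ) := Blocks.Induced.sameBlock_refl hMp _
  have hBc : ∃ χ ∈ B, ∃ θ' ∈ blockOf M (θ : Z.ker → ℂ),
      classInner (fun n : Z.ker => (χ : G → ℂ) n) (θ' : Z.ker → ℂ) ≠ 0 :=
    ⟨χ, hχ, θ, hθc, (ov_iff Z.ker χ θ).1 hθ⟩
  have h1 := star hM hV S Z.ker hSN hcyc hB hc hB' hBc ⟨θ, hθc, η, hη, hθη⟩
    (fun g hg => hZ _ hc hBc g hg) O (fun i _ => hO i)
  rw [index_ker] at h1
  refine h1.trans (le_of_eq ?_)
  refine Finset.sum_congr rfl fun i _ => ?_
  exact card_split hM hV S hcyc (hO i) (hQ i i.2)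

/-- The descent inequality, exchanging the sums. -/
theorem desc_le_fix (hM : IsPModular p M) (hV : Above M V) (S : Subgroup G) [S.Normal]
    (hcyc : IsCyclic (G ⧸ S)) {B : Set (IrrCharacter G)} (hB : IsPBlock M B)
    {B' : Set (IrrCharacter S)} (hB' : IsPBlock M B') (hcov : Cov S B B')
    (Z : G →* ℂˣ) (hZS : ∀ x ∈ S, Z x = 1) [Fintype Z.ker]
    (hZ : ∀ c : Set (IrrCharacter Z.ker), IsPBlock M c →
      (∃ χ ∈ B, ∃ θ ∈ c, classInner (fun n : Z.ker => (χ : G → ℂ) n) (θ : Z.ker → ℂ) ≠ 0) →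
      ∀ g : G, H648.Dict.conjN Z.ker g c = c → Z g = 1)
    [Fintype (APrime S p)] (k : ℕ)
    (hk : ∀ i ∈ ibrUnder V B, ∀ Q : Finset (IBr V (pKer S p)), IsRes p (pKer S p) i Q → Q.card ≤ k) :
    blockRank p B' * orderOf Z ≤ k * ∑ l : APrime S p,
      Nat.card {i : IBr V G // i ∈ ibrUnder V B ∧
        (fun g => ((l : G →* ℂˣ) g : ℂ) * phi p i g) = phi p i} := by
  classical
  have := Fintype.ofFinite (IBr V G)
  have := Fintype.ofFinite (ibrUnder V B)
  choose Q hQne hQ hQ1 hQ2 using H112.Clif.clifford_cyclic (V := V) hM hV (pKer S p)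
    (isCyclic_quot (le_pKer S p) hcyc)
  refine (desc_le hM hV S hcyc hB hB' hcov Z hZS hZ Q (fun i _ => hQ i)).trans ?_
  have h1 : ∀ i : ibrUnder V B, Nat.card {l : G →* ℂˣ // ((∀ x ∈ S, l x = 1) ∧ (orderOf l).Coprime p) ∧
      (fun g => (l g : ℂ) * phi p (i : IBr V G) g) = phi p (i : IBr V G)} =
      ∑ l : APrime S p, if (fun g => ((l : G →* ℂˣ) g : ℂ) * phi p (i : IBr V G) g) = phi p (i : IBr V G)
        then 1 else 0 := by
    intro i
    rw [Finset.sum_boole, Nat.cast_id, ← Fintype.card_subtype, ← Nat.card_eq_fintype_card]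
    exact Nat.card_congr (Equiv.subtypeSubtypeEquivSubtypeInter _ _).symm
  have h2 : ∀ l : APrime S p, Nat.card {i : IBr V G // i ∈ ibrUnder V B ∧
        (fun g => ((l : G →* ℂˣ) g : ℂ) * phi p i g) = phi p i} =
      ∑ i : ibrUnder V B, if (fun g => ((l : G →* ℂˣ) g : ℂ) * phi p (i : IBr V G) g) =
        phi p (i : IBr V G) then 1 else 0 := by
    intro l
    rw [Finset.sum_boole, Nat.cast_id, ← Fintype.card_subtype, ← Nat.card_eq_fintype_card]
    exact Nat.card_congr (Equiv.subtypeSubtypeEquivSubtypeInter _ _).symm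
  calc ∑ i : ibrUnder V B, Nat.card {l : G →* ℂˣ // ((∀ x ∈ S, l x = 1) ∧ (orderOf l).Coprime p) ∧
        (fun g => (l g : ℂ) * phi p (i : IBr V G) g) = phi p (i : IBr V G)} * (Q i).card
      ≤ ∑ i : ibrUnder V B, k * ∑ l : APrime S p, (if (fun g => ((l : G →* ℂˣ) g : ℂ) *
        phi p (i : IBr V G) g) = phi p (i : IBr V G) then 1 else 0) := by
        refine Finset.sum_le_sum fun i _ => ?_
        rw [h1 i, mul_comm]
        exact Nat.mul_le_mul_right _ (hk i i.2 _ (hQ i))
    _ = k * ∑ l : APrime S p, Nat.card {i : IBr V G // i ∈ ibrUnder V B ∧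
        (fun g => ((l : G →* ℂˣ) g : ℂ) * phi p i g) = phi p i} := by
        rw [← Finset.mul_sum, Finset.sum_comm]
        congr 1
        exact Finset.sum_congr rfl fun l _ => (h2 l).symm

/-- The number of constituents on `pKer S p` is the order of a linear character fixing a member of the block. -/
theorem exists_fixed_pKer (hM : IsPModular p M) (hV : Above M V) (S : Subgroup G) [S.Normal]
    (hcyc : IsCyclic (G ⧸ S)) {B : Set (IrrCharacter G)} (hB : IsPBlock M B)
    {i : IBr V G} (hi : i ∈ ibrUnder V B) {Q : Finset (IBr V (pKer S p))} (hQ : IsRes p (pKer S p) i Q) :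
    ∃ (l : G →* ℂˣ) (χ : IrrCharacter G), χ ∈ B ∧ (∀ x ∈ S, l x = 1) ∧ orderOf l = Q.card ∧
      (∃ j : ℕ, Q.card = p ^ j) ∧ ∀ g, (l g : ℂ) * (χ : G → ℂ) g = (χ : G → ℂ) g := by
  obtain ⟨lp, lq, a, m, ham, hmc, hlp, hlq, hK, hSq, hchar⟩ := exists_split S hcyc hM.1
  have hKi : (pKer S p).index = p ^ a := by rw [hK, index_ker, hlp]
  have hGK : IsCyclic (G ⧸ pKer S p) := isCyclic_quot (le_pKer S p) hcyc
  obtain ⟨l, χ, h1, h2, h3, h4⟩ := exists_fixed hM hV (pKer S p) hGK (a := a) hKi hB i hi Q hQ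
  refine ⟨l, χ, h1, fun x hx => h2 x (le_pKer S p hx), h3, ?_, h4⟩
  have h5 := card_dvd_index hM hV (pKer S p) hGK hQ
  rw [hKi] at h5
  obtain ⟨j, -, hj⟩ := (Nat.dvd_prime_pow hM.1).1 h5
  exact ⟨j, hj⟩

end

end Cfsg.Agent.H666.Clif
end
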