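import Cfsg.Agent.H610.GLB.Prod
import Cfsg.Agent.H38.S4536.N3
import Cfsg.Agent.H624.Sl.Defs
import Cfsg.Agent.H112.GLB.Main
import Cfsg.Agent.H157.GLB.DA
import Cfsg.Agent.H666.Clif.Desc
import Cfsg.Agent.H577.GLB.Lab
set_option linter.all false

-- part: H610/GLB/DE
section
/-!
# S4536 / S4537, section DE: the counting (helper610)

* `sum_nfix_le` : (2e);
* `sum_nfix_le_one` : (3c), `p ∣ Q - 1`;
* `card_family_one` : one orbit, `p ∣ Q - 1`.
-/

set_option autoImplicit false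
set_option linter.unusedSectionVars false
set_option linter.unusedVariables false

namespace Cfsg.Agent.H610.GLB

open Cfsg.Agent.H577.GLB.Std Cfsg.Agent.H614

variable {Q : ℤ} {M : ℕ} [NeZero M] {p : ℕ} {m n : ℕ}

theorem oQ_dvd (hp : p.Prime) (hQp : IsUnit (Q : ZMod p)) : oQ Q p ∣ p - 1 := by
  have := Fact.mk hp
  unfold oQ
  exact orderOf_dvd_of_pow_eq_one (ZMod.pow_card_sub_one_eq_one hQp.ne_zero)

theorem eD_eq (hp : p.Prime) (hQp : IsUnit (Q : ZMod p)) (c : ZMod M) :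
    eD Q M p c = oQ Q p / Nat.gcd (oQ Q p) (perZ Q M c) := by
  have := Fact.mk hp
  exact hQp.isOfFinOrder.orderOf_pow (Q : ZMod p) (perZ Q M c)

theorem oQ_pos (hp : p.Prime) (hQp : IsUnit (Q : ZMod p)) : 0 < oQ Q p := by
  have := Fact.mk hp
  exact hQp.isOfFinOrder.orderOf_pos

theorem gcd_eq (hp : p.Prime) (hQp : IsUnit (Q : ZMod p)) (c : ZMod M) :
    Nat.gcd (oQ Q p) (perZ Q M c) = oQ Q p / eD Q M p c := by
  have h0 := oQ_pos hp hQp
  have hd : Nat.gcd (oQ Q p) (perZ Q M c) ∣ oQ Q p := Nat.gcd_dvd_left _ _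
  rw [eD_eq hp hQp, Nat.div_div_self hd h0.ne']

theorem eD_dvd (hp : p.Prime) (hQp : IsUnit (Q : ZMod p)) (c : ZMod M) : eD Q M p c ∣ oQ Q p := by
  rw [eD_eq hp hQp]
  exact Nat.div_dvd_of_dvd (Nat.gcd_dvd_left _ _)

open Classical in
/-- (2e) -/
theorem sum_nfix_le (hp : p.Prime) (hQ : IsUnit (Q : ZMod M)) (hQp : IsUnit (Q : ZMod p))
    {m n : ℕ} (hmn : n ≤ m) (t0 : LabZ Q M m n) (h0 : POnly M p t0.t) :
    ∑ a ∈ Finset.univ.filter (fun a : ZMod M => Stab Q M p t0 a), nfix Q M p t0 a ≤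
      (Finset.univ.filter (fun a : ZMod M => SF Q M p t0 a)).card * p ^ totW Q M p t0.t := by
  refine (sum_nfix_prod (h0 := h0) hQ hp hQp).trans (Nat.mul_le_mul_left _ ?_)
  refine le_trans (b := ∏ o : Om t0 h0 hQ, p ^ ((BB (t0 := t0) (h0 := h0) hQ o.1).index * ewt (eD Q M p o.1) (t0.t o.1))) ?_ ?_
  · refine Finset.prod_le_prod' fun o _ => ?_
    have hw : 0 < ewt (eD Q M p o.1) (t0.t o.1) := o.2.2.2
    have hK := (KS_bound (eD_pos hQp hp o.1) (t0.mono o.1)).2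
    obtain ⟨v, hv⟩ : ∃ v, ewt (eD Q M p o.1) (t0.t o.1) = v + 1 := ⟨_, (Nat.sub_add_cancel hw).symm⟩
    rw [gcd_eq hp hQp]
    refine H140.S4536.N2 p (oQ Q p) (eD Q M p o.1) _ _ _ hp (oQ_dvd hp hQp) (eD_dvd hp hQp _) (eD_pos hQp hp _) hw
      (Nat.one_le_iff_ne_zero.2 AddSubgroup.index_ne_zero_of_finite) ?_
    rw [hv] at hK ⊢
    exact hK
  · rw [Finset.prod_pow_eq_pow_sum]
    exact Nat.pow_le_pow_right hp.pos (sum_kw_le hQ hp hQp)

/-! ### `p` divides `Q - 1` -/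

theorem oQ_one (hQp : (Q : ZMod p) = 1) : oQ Q p = 1 := by
  unfold oQ
  rw [hQp, orderOf_one]

theorem eD_one (hQp : (Q : ZMod p) = 1) (c : ZMod M) : eD Q M p c = 1 := by
  unfold eD
  rw [hQp, one_pow, orderOf_one]

theorem sameCol_one (β γ : Fin m → ℕ) : SameCol 1 β γ := sameCol_of_mod fun j => by rw [Nat.mod_one, Nat.mod_one]

theorem npairs_one (β : Fin m → ℕ) : npairs 1 β = ∑ i : Fin m, (i : ℕ) := by
  have h1 := two_mul_npairs 1 β
  have h2 : (Finset.univ.filter fun x : Fin m × Fin m => β x.1 % 1 = β x.2 % 1).card = m * m := by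
    rw [Finset.filter_true_of_mem (fun x _ => by rw [Nat.mod_one, Nat.mod_one]), Finset.card_univ, Fintype.card_prod,
      Fintype.card_fin]
  have h3 : (∑ i : Fin m, (i : ℕ)) * 2 = m * (m - 1) := by
    rw [Fin.sum_univ_eq_sum_range (fun i => i) m, Finset.sum_range_id_mul_two]
  have h4 : m * (m - 1) + m = m * m := by
    rcases m with _ | m
    · rfl
    · rw [Nat.add_sub_cancel]
      ring
  omega

theorem ewt_one (β : Fin m → ℕ) : ewt 1 β = bsz β := by
  unfold ewt bsz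
  rw [npairs_one]
  simp

theorem bsz_le (t0 : LabZ Q M m n) (c : ZMod M) : bsz (t0.t c) ≤ n := by
  exact (Finset.single_le_sum (f := fun c => bsz (t0.t c)) (fun _ _ => Nat.zero_le _) (Finset.mem_univ c)).trans t0.sum.le

theorem card_KS_one {β₀ : Fin m → ℕ} (hb : bsz β₀ ≤ m) :
    Nat.card (KS 1 β₀) = Fintype.card (Nat.Partition (bsz β₀)) := by
  rw [← H38.S4536.card_tuples hb]
  refine Nat.card_congr (Equiv.subtypeEquivRight fun β => ?_)
  constructor
  · rintro ⟨h1, h2, -⟩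
    exact ⟨h1, by rw [sum_of_bsz h1, h2]⟩
  · rintro ⟨h1, h2⟩
    refine ⟨h1, ?_, sameCol_one _ _⟩
    rw [sum_of_bsz h1] at h2
    omega

/-- the index of `B o` is prime to `p` -/
theorem index_coprime {t0 : LabZ Q M m n} {h0 : POnly M p t0.t} (hp : p.Prime) (B : AddSubgroup (stA t0 h0)) :
    B.index.Coprime p := by
  rw [Nat.coprime_comm, hp.coprime_iff_not_dvd]
  intro h
  have := Fact.mk hp
  have h1 : p ∣ Nat.card (stA t0 h0) := h.trans (AddSubgroup.index_dvd_card B)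
  obtain ⟨x, hx⟩ := exists_prime_addOrderOf_dvd_card' p h1
  have h2 := stA_pReg x.2
  unfold PReg at h2
  rw [AddSubgroup.addOrderOf_coe, hx, Nat.coprime_self] at h2
  exact hp.ne_one h2

open Classical in
/-- (3c) -/
theorem sum_nfix_le_one (hp : p.Prime) (hQ : IsUnit (Q : ZMod M)) (hQp : (Q : ZMod p) = 1)
    {m n : ℕ} (hmn : n ≤ m) (hn : 0 < n) (t0 : LabZ Q M m n) (h0 : POnly M p t0.t) (j : ℕ)
    (hj : ∀ δ, p ^ j ∣ bsz (t0.t δ))
    (hex : ¬ (p = 2 ∧ ∃ δ0, (∀ δ, 0 < bsz (t0.t δ) → SameZ Q M δ0 δ) ∧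
      (bsz (t0.t δ0) = 2 ∨ bsz (t0.t δ0) = 4 ∨ bsz (t0.t δ0) = 8))) :
    p * (p ^ j * ∑ a ∈ Finset.univ.filter (fun a : ZMod M => Stab Q M p t0 a), nfix Q M p t0 a) ≤
      (Finset.univ.filter (fun a : ZMod M => SF Q M p t0 a)).card * p ^ totW Q M p t0.t := by
  have hQp' : IsUnit (Q : ZMod p) := by rw [hQp]; exact isUnit_one
  have hew : ∀ c, ewt (eD Q M p c) (t0.t c) = bsz (t0.t c) := fun c => by rw [eD_one hQp, ewt_one]
  -- a class
  have hcls : ∀ c, 0 < bsz (t0.t c) → ∃ o : Om t0 h0 hQ, rel t0 h0 o.1 c := by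
    intro c hc
    have hreg : PReg M p c := by
      by_contra hcon
      rw [h0 c hcon] at hc
      exact lt_irrefl _ hc
    have hr := rep_rel t0 h0 hQ c
    have hr' := rel_symm hQ hr
    refine ⟨⟨rep t0 h0 hQ c, rep_eq t0 h0 hQ hr, (rel_data hQ hr' hreg).1, ?_⟩, hr⟩
    rw [ewt_rel hQ hp hQp' hr' hreg, hew]
    exact hc
  have hne : Nonempty (Om t0 h0 hQ) := by
    obtain ⟨c, -, hc⟩ : ∃ c ∈ Finset.univ, 0 < bsz (t0.t c) := by
      by_contra hcon
      push Not at hcon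
      have h1 := Finset.sum_eq_zero (fun c hc => Nat.le_zero.1 (hcon c hc))
      rw [t0.sum] at h1
      omega
    obtain ⟨o, -⟩ := hcls c hc
    exact ⟨o⟩
  have hprod := sum_nfix_prod (h0 := h0) hQ hp hQp'
  have hkw := sum_kw_le (h0 := h0) hQ hp hQp'
  have hN3 := H38.S4536.N3 p hp (ι := Om t0 h0 hQ) (fun o => (BB (t0 := t0) (h0 := h0) hQ o.1).index) (fun o => bsz (t0.t o.1))
    (fun o => Nat.one_le_iff_ne_zero.2 AddSubgroup.index_ne_zero_of_finite) (fun o => index_coprime hp _)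
    (fun o => by
      have := o.2.2.2
      rw [hew] at this
      exact this) j (fun o => hj o.1) (by
      rintro ⟨h2, o, ho, hk, hw⟩
      refine hex ⟨h2, o.1, fun δ hδ => ?_, hw⟩
      obtain ⟨o', b, hb, i, hi⟩ := hcls δ hδ
      rw [ho o'] at hi
      have hB : (BB (t0 := t0) (h0 := h0) hQ o.1) = ⊤ := AddSubgroup.index_eq_one.1 hk
      obtain ⟨k, hk'⟩ := mem_fixB.1 (show (⟨b, hb⟩ : stA t0 h0) ∈ BB (t0 := t0) (h0 := h0) hQ o.1 by
        rw [hB]; exact AddSubgroup.mem_top _)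
      refine ⟨i + k, ?_⟩
      have hk'' : o.1 + b = (Q : ZMod M) ^ k * o.1 := hk'
      rw [hi, pow_add, mul_assoc, ← hk'', mul_add, pow_fix (stA_fix hb)])
  have hterm : ∀ o : Om t0 h0 hQ, (Nat.gcd (oQ Q p) (perZ Q M o.1) * ∑ c ∈ Finset.range (BB (t0 := t0) (h0 := h0) hQ o.1).index,
          Nat.card (KS (eD Q M p o.1) (t0.t o.1)) ^ Nat.gcd c (BB (t0 := t0) (h0 := h0) hQ o.1).index) =
      ∑ c ∈ Finset.range (BB (t0 := t0) (h0 := h0) hQ o.1).index,
          Fintype.card (Nat.Partition (bsz (t0.t o.1))) ^ Nat.gcd c (BB (t0 := t0) (h0 := h0) hQ o.1).index := by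
    intro o
    rw [oQ_one hQp, Nat.gcd_one_left, one_mul, eD_one hQp, card_KS_one ((bsz_le t0 o.1).trans hmn)]
  rw [Finset.prod_congr rfl fun o _ => hterm o] at hprod
  rw [Finset.sum_congr rfl fun (o : Om t0 h0 hQ) _ => by rw [hew o.1]] at hkw
  set s := ∑ o : Om t0 h0 hQ, (BB (t0 := t0) (h0 := h0) hQ o.1).index * bsz (t0.t o.1) with hs
  have hs1 : 1 ≤ s := by
    obtain ⟨o⟩ := hne
    have h1 : (BB (t0 := t0) (h0 := h0) hQ o.1).index * bsz (t0.t o.1) ≤ s :=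
      Finset.single_le_sum (f := fun o : Om t0 h0 hQ => (BB (t0 := t0) (h0 := h0) hQ o.1).index * bsz (t0.t o.1))
        (fun _ _ => Nat.zero_le _) (Finset.mem_univ o)
    have h2 : 0 < (BB (t0 := t0) (h0 := h0) hQ o.1).index := Nat.pos_of_ne_zero AddSubgroup.index_ne_zero_of_finite
    have h3 : 0 < bsz (t0.t o.1) := by
      have := o.2.2.2
      rwa [hew] at this
    exact (Nat.mul_pos h2 h3).trans_le h1
  calc p * (p ^ j * ∑ a ∈ Finset.univ.filter (fun a : ZMod M => Stab Q M p t0 a), nfix Q M p t0 a)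
      ≤ p * (p ^ j * ((Finset.univ.filter (fun a : ZMod M => SF Q M p t0 a)).card * _)) :=
        Nat.mul_le_mul_left _ (Nat.mul_le_mul_left _ hprod)
    _ = (Finset.univ.filter (fun a : ZMod M => SF Q M p t0 a)).card * (p * (p ^ j * _)) := by ring
    _ ≤ (Finset.univ.filter (fun a : ZMod M => SF Q M p t0 a)).card * (p * p ^ (s - 1)) :=
        Nat.mul_le_mul_left _ (Nat.mul_le_mul_left _ hN3)
    _ = (Finset.univ.filter (fun a : ZMod M => SF Q M p t0 a)).card * p ^ s := by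
        rw [← pow_succ', Nat.sub_add_cancel hs1]
    _ ≤ _ := Nat.mul_le_mul_left _ (Nat.pow_le_pow_right hp.pos hkw)

end Cfsg.Agent.H610.GLB
end

-- part: H624/Sl/Tw
section
/-!
# Twisted central elements (W1 of S4536)
-/

set_option autoImplicit false
set_option linter.unusedSectionVars false

open Cfsg

namespace Cfsg.Agent.H624.Sl

open Cfsg.Agent.H644 Cfsg.Agent.Blocks.Local Cfsg.Agent.H648.Dict
open Cfsg.Agent.Blocks.Basic (isPBlock_nonempty isPBlock_mem_iff isPBlock_eq_of_mem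
  isPBlock_eq_blockOf isPBlock_sameBlock isPBlock_mem_of_sameBlock isPBlock_blockOf
  mem_blockOf_self)

section

variable {G : Type*} [Group G] [Finite G] {p : ℕ} {M : Ideal AlgInt} [M.IsPrime]

theorem isIntegral_val (ζ : G →* ℂˣ) (g : G) : IsIntegral ℤ ((ζ g : ℂˣ) : ℂ) := by
  have h : ((ζ g : ℂˣ) : ℂ) ^ (orderOf g) = 1 := by
    rw [← Units.val_pow_eq_pow_val, ← map_pow, pow_orderOf_eq_one, map_one, Units.val_one]
  exact IsIntegral.of_pow (orderOf_pos g) (h ▸ isIntegral_one)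

theorem memLocalRing_val (ζ : G →* ℂˣ) (g : G) : MemLocalRing M ((ζ g : ℂˣ) : ℂ) :=
  memLocalRing_algInt (⟨_, isIntegral_val ζ g⟩ : AlgInt)

/-- the reduction of `ζ` -/
noncomputable def zr (M : Ideal AlgInt) [M.IsPrime] (ζ : G →* ℂˣ) : G →* ResField M where
  toFun g := redC M (ζ g : ℂ)
  map_one' := by rw [map_one, Units.val_one, redC_one]
  map_mul' g h := by
    rw [map_mul, Units.val_mul, redC_mul (memLocalRing_val ζ g) (memLocalRing_val ζ h)]

theorem zr_apply (ζ : G →* ℂˣ) (g : G) : zr M ζ g = redC M (ζ g : ℂ) := rfl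

theorem zr_ne_zero (ζ : G →* ℂˣ) (g : G) : zr M ζ g ≠ 0 := by
  intro h
  have h1 : zr M ζ g * zr M ζ g⁻¹ = 1 := by rw [← map_mul, mul_inv_cancel, map_one]
  rw [h, zero_mul] at h1
  exact zero_ne_one h1

theorem zr_inv (ζ : G →* ℂˣ) (g : G) : zr M ζ g⁻¹ = (zr M ζ g)⁻¹ := by
  refine eq_inv_of_mul_eq_one_left ?_
  rw [← map_mul, inv_mul_cancel, map_one]

theorem natCast_ne_zero (hM : IsPModular p M) {k : ℕ} (hk : ¬ p ∣ k) : (k : ResField M) ≠ 0 := by
  have hp := hM.1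
  intro h
  have hpM : ((p : ℕ) : ResField M) = 0 := by
    rw [← redC_natCast, redC_eq_zero_iff (memLocalRing_natCast p)]
    exact memLocalIdeal_of_mem (M := M) (a := (p : AlgInt)) hM.2.2
  have hco : Nat.Coprime p k := (Nat.Prime.coprime_iff_not_dvd hp).2 hk
  have h1 := Nat.gcd_eq_gcd_ab p k
  rw [hco] at h1
  have h2 := congrArg (fun z : ℤ => (z : ResField M)) h1
  simp only [Nat.cast_one, Int.cast_one, Int.cast_add, Int.cast_mul, Int.cast_natCast, h, hpM,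
    zero_mul, add_zero] at h2
  exact one_ne_zero h2

theorem zr_eq_one_iff (hM : IsPModular p M) {ζ : G →* ℂˣ} (hζ : PPrime p ζ) {g : G} :
    zr M ζ g = 1 ↔ ζ g = 1 := by
  constructor
  · intro h
    obtain ⟨k, hk, hpk, hζk⟩ := hζ
    by_contra hne
    have h1 : ∑ i ∈ Finset.range k, ((ζ g : ℂˣ) : ℂ) ^ i = 0 := by
      have h2 := geom_sum_mul ((ζ g : ℂˣ) : ℂ) k
      rw [← Units.val_pow_eq_pow_val, hζk g, Units.val_one, sub_self] at h2
      rcases mul_eq_zero.1 h2 with h3 | h3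
      · exact h3
      · exact absurd (Units.ext (sub_eq_zero.1 h3)) hne
    have h2 := congrArg (redC M) h1
    rw [redC_zero, redC_sum (fun i _ => memLocalRing_pow (memLocalRing_val ζ g) i)] at h2
    refine natCast_ne_zero hM hpk ?_
    rw [← h2]
    rw [Finset.sum_congr rfl (fun i _ => by
      rw [redC_pow (memLocalRing_val ζ g), ← zr_apply, h, one_pow])]
    simp
  · intro h
    rw [zr_apply, h, Units.val_one, redC_one]

theorem isTw_iff {ζ : G →* ℂˣ} {x : MonoidAlgebra (ResField M) G} :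
    IsTw ζ x ↔ ∀ h g : G, x.coeff (h * g * h⁻¹) = zr M ζ h * x.coeff g := Iff.rfl

theorem isTw_iff_cj {ζ : G →* ℂˣ} {x : MonoidAlgebra (ResField M) G} :
    IsTw ζ x ↔ ∀ h : G, cj h x = zr M ζ h⁻¹ • x := by
  constructor
  · intro hx h
    refine ext_coeff fun g => ?_
    rw [coeff_cj, MonoidAlgebra.coeff_smul, Finsupp.smul_apply, smul_eq_mul]
    have h1 := hx h⁻¹ g
    rw [inv_inv] at h1
    exact h1
  · intro hx h g
    have h1 := congrArg (fun z => z.coeff g) (hx h⁻¹)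
    simp only [coeff_cj, MonoidAlgebra.coeff_smul, Finsupp.smul_apply, smul_eq_mul, inv_inv] at h1
    rw [h1]
    rfl

/-- the support of equivariant elements -/
theorem IsTw.centralizer_le (hM : IsPModular p M) {ζ : G →* ℂˣ} (hζ : PPrime p ζ)
    {x : MonoidAlgebra (ResField M) G} (hx : IsTw ζ x) {g : G} (hg : x.coeff g ≠ 0) :
    Subgroup.centralizer ({g} : Set G) ≤ ζ.ker := by
  intro h hh
  have h1 := hx h g
  have h2 : h * g * h⁻¹ = g := by
    rw [Subgroup.mem_centralizer_singleton_iff.1 hh, mul_inv_cancel_right]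
  rw [h2] at h1
  rw [MonoidHom.mem_ker, ← zr_eq_one_iff hM hζ]
  have h3 : (zr M ζ h - 1) * x.coeff g = 0 := by
    rw [sub_mul, one_mul, sub_eq_zero, zr_apply, ← h1]
  rcases mul_eq_zero.1 h3 with h4 | h4
  · exact sub_eq_zero.1 h4
  · exact absurd h4 hg

theorem IsTw.supp (hM : IsPModular p M) {ζ : G →* ℂˣ} (hζ : PPrime p ζ)
    {x : MonoidAlgebra (ResField M) G} (hx : IsTw ζ x) {g : G} (hg : g ∉ ζ.ker) : x.coeff g = 0 := by
  by_contra h
  exact hg (hx.centralizer_le hM hζ h (Subgroup.mem_centralizer_singleton_iff.2 rfl))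

theorem IsTw.smul {ζ : G →* ℂˣ} {x : MonoidAlgebra (ResField M) G} (hx : IsTw ζ x)
    (c : ResField M) : IsTw ζ (c • x) := by
  intro h g
  rw [MonoidAlgebra.coeff_smul, Finsupp.smul_apply, Finsupp.smul_apply, hx h g, smul_eq_mul,
    smul_eq_mul]
  ring

theorem isTw_zero (ζ : G →* ℂˣ) : IsTw ζ (0 : MonoidAlgebra (ResField M) G) := by
  intro h g
  simp

/-- an equivariant element commutes with every element supported on the kernel -/
theorem IsTw.commute {ζ : G →* ℂˣ} {x : MonoidAlgebra (ResField M) G} (hx : IsTw ζ x)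
    {y : MonoidAlgebra (ResField M) G} (hy : ∀ g, g ∉ ζ.ker → y.coeff g = 0) : x * y = y * x := by
  have := Fintype.ofFinite G
  refine ext_coeff fun g => ?_
  rw [coeff_mul_eq_sum, coeff_mul_eq_sum]
  refine Fintype.sum_equiv ((Equiv.inv G).trans (Equiv.mulRight g)) _ _ fun a => ?_
  change x.coeff a * y.coeff (a⁻¹ * g) = y.coeff (a⁻¹ * g) * x.coeff ((a⁻¹ * g)⁻¹ * g)
  by_cases h : a⁻¹ * g ∈ ζ.ker
  · have h1 := hx (a⁻¹ * g)⁻¹ a
    have h2 : redC M (ζ (a⁻¹ * g)⁻¹ : ℂ) = 1 := by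
      rw [map_inv, MonoidHom.mem_ker.1 h, inv_one, Units.val_one, redC_one]
    rw [h2, one_mul] at h1
    have h3 : (a⁻¹ * g)⁻¹ * a * (a⁻¹ * g)⁻¹⁻¹ = (a⁻¹ * g)⁻¹ * g := by group
    rw [← h3, h1, mul_comm]
  · rw [hy _ h, mul_zero, zero_mul]

theorem IsTw.mul_cls {ζ : G →* ℂˣ} {x y : MonoidAlgebra (ResField M) G} (hx : IsTw ζ x)
    (hy : IsCls y) : IsTw ζ (y * x) := by
  rw [isTw_iff_cj] at hx ⊢
  intro h
  rw [map_mul, cj_of_isCls hy, hx, Algebra.mul_smul_comm]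

theorem IsTw.pow_cj {ζ : G →* ℂˣ} {x : MonoidAlgebra (ResField M) G} (hx : IsTw ζ x) (n : ℕ)
    (h : G) : cj h (x ^ n) = (zr M ζ h⁻¹) ^ n • x ^ n := by
  rw [isTw_iff_cj] at hx
  rw [map_pow, hx, smul_pow]

/-- some power of an equivariant element is central -/
theorem IsTw.isCls_pow {ζ : G →* ℂˣ} {x : MonoidAlgebra (ResField M) G} (hx : IsTw ζ x) {n : ℕ}
    (hn : ∀ g, ζ g ^ n = 1) : IsCls (x ^ n) := by
  rw [isCls_iff_isInv_top, isInv_iff_cj]
  intro h _
  rw [hx.pow_cj, zr_apply, ← redC_pow (memLocalRing_val ζ _), ← Units.val_pow_eq_pow_val, hn,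
    Units.val_one, redC_one, one_smul]

open Classical in
theorem coeff_tw {ζ : G →* ℂˣ} {x : G}
    (hx : Subgroup.centralizer ({x} : Set G) ≤ ζ.ker) (g : G) :
    (tw M ζ x).coeff (g * x * g⁻¹) = zr M ζ g := by
  have h : ∃ g' : G, g' * x * g'⁻¹ = g * x * g⁻¹ := ⟨g, rfl⟩
  rw [tw, coeff_mkA, dif_pos h, ← zr_apply]
  have h1 := h.choose_spec
  have h2 : g⁻¹ * h.choose ∈ ζ.ker := by
    apply hx
    rw [Subgroup.mem_centralizer_singleton_iff]
    calc g⁻¹ * h.choose * x = g⁻¹ * (h.choose * x * h.choose⁻¹) * h.choose := by group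
      _ = g⁻¹ * (g * x * g⁻¹) * h.choose := by rw [h1]
      _ = x * (g⁻¹ * h.choose) := by group
  have h3 : ζ h.choose = ζ g := by
    rw [MonoidHom.mem_ker, map_mul, map_inv, inv_mul_eq_one] at h2
    exact h2.symm
  rw [zr_apply, zr_apply, h3]

theorem coeff_tw_of_not {ζ : G →* ℂˣ} {x y : G} (h : ¬ ∃ g : G, g * x * g⁻¹ = y) :
    (tw M ζ x).coeff y = 0 := by
  rw [tw, coeff_mkA, dif_neg h]

/-- W1a -/
theorem isTw_tw (hM : IsPModular p M) {ζ : G →* ℂˣ} {x : G}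
    (hx : Subgroup.centralizer ({x} : Set G) ≤ ζ.ker) : IsTw (M := M) ζ (tw M ζ x) := by
  intro h g
  by_cases hg : ∃ g' : G, g' * x * g'⁻¹ = g
  · obtain ⟨g', rfl⟩ := hg
    have h1 : h * (g' * x * g'⁻¹) * h⁻¹ = (h * g') * x * (h * g')⁻¹ := by group
    rw [h1, coeff_tw hx, coeff_tw hx, map_mul, zr_apply]
  · rw [coeff_tw_of_not hg, coeff_tw_of_not, mul_zero]
    rintro ⟨g', hg'⟩
    refine hg ⟨h⁻¹ * g', ?_⟩
    calc h⁻¹ * g' * x * (h⁻¹ * g')⁻¹ = h⁻¹ * (g' * x * g'⁻¹) * h := by group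
      _ = g := by rw [hg']; group

theorem centralizer_conj_le {ζ : G →* ℂˣ} {x : G}
    (hx : Subgroup.centralizer ({x} : Set G) ≤ ζ.ker) (g : G) :
    Subgroup.centralizer ({g * x * g⁻¹} : Set G) ≤ ζ.ker := by
  intro h hh
  rw [Subgroup.mem_centralizer_singleton_iff] at hh
  have h1 : g⁻¹ * h * g ∈ ζ.ker := by
    apply hx
    rw [Subgroup.mem_centralizer_singleton_iff]
    calc g⁻¹ * h * g * x = g⁻¹ * (h * (g * x * g⁻¹)) * g := by group
      _ = g⁻¹ * (g * x * g⁻¹ * h) * g := by rw [hh]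
      _ = x * (g⁻¹ * h * g) := by group
  rw [MonoidHom.mem_ker, map_mul, map_mul, map_inv] at h1
  rw [MonoidHom.mem_ker]
  calc ζ h = (ζ g)⁻¹ * ζ h * ζ g := by rw [mul_comm (ζ g)⁻¹, mul_assoc, inv_mul_cancel, mul_one]
    _ = 1 := h1

/-- the basic elements of conjugate elements -/
theorem tw_conj (hM : IsPModular p M) {ζ : G →* ℂˣ} {x : G}
    (hx : Subgroup.centralizer ({x} : Set G) ≤ ζ.ker) (g : G) :
    tw M ζ (g * x * g⁻¹) = (zr M ζ g)⁻¹ • tw M ζ x := by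
  refine ext_coeff fun y => ?_
  rw [MonoidAlgebra.coeff_smul, Finsupp.smul_apply, smul_eq_mul]
  by_cases hy : ∃ g' : G, g' * x * g'⁻¹ = y
  · obtain ⟨g', rfl⟩ := hy
    have h1 : g' * x * g'⁻¹ = (g' * g⁻¹) * (g * x * g⁻¹) * (g' * g⁻¹)⁻¹ := by group
    rw [coeff_tw hx]
    rw [h1, coeff_tw (centralizer_conj_le hx g), map_mul, zr_inv, mul_comm]
  · rw [coeff_tw_of_not hy, coeff_tw_of_not, mul_zero]
    rintro ⟨g', hg'⟩
    refine hy ⟨g' * g, ?_⟩
    rw [← hg']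
    group

theorem isNilpotent_smul_iff' {A : Type*} [Ring A] [Algebra (ResField M) A] {c : ResField M}
    (hc : c ≠ 0) (x : A) : IsNilpotent (c • x) ↔ IsNilpotent x := by
  constructor
  · rintro ⟨n, hn⟩
    refine ⟨n, ?_⟩
    rw [smul_pow] at hn
    exact (smul_eq_zero.1 hn).resolve_left (pow_ne_zero n hc)
  · rintro ⟨n, hn⟩
    exact ⟨n, by rw [smul_pow, hn, smul_zero]⟩

/-- W1b -/
theorem nz_conj (hM : IsPModular p M) {ζ : G →* ℂˣ} {B : Set (IrrCharacter G)}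
    {x : G} (h : Nz M ζ B x) (g : G) : Nz M ζ B (g * x * g⁻¹) := by
  refine ⟨centralizer_conj_le h.1 g, ?_⟩
  rw [tw_conj hM h.1, Algebra.mul_smul_comm, isNilpotent_smul_iff' (inv_ne_zero (zr_ne_zero ζ g))]
  exact h.2

theorem nz_of_isConj (hM : IsPModular p M) {ζ : G →* ℂˣ} {B : Set (IrrCharacter G)}
    {x y : G} (h : Nz M ζ B x) (hxy : IsConj x y) : Nz M ζ B y := by
  obtain ⟨g, rfl⟩ := isConj_iff.1 hxy
  exact nz_conj hM h g

/-- an equivariant element is a linear combination of basic elements -/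
theorem eq_sum_tw (hM : IsPModular p M) {ζ : G →* ℂˣ} (hζ : PPrime p ζ)
    [Fintype (ConjClasses G)] {z : MonoidAlgebra (ResField M) G} (hz : IsTw ζ z) :
    z = ∑ c : ConjClasses G, z.coeff (crep c) • tw M ζ (crep c) := by
  classical
  refine ext_coeff fun y => ?_
  have h1 : (∑ c : ConjClasses G, z.coeff (crep c) • tw M ζ (crep c)).coeff y =
      ∑ c : ConjClasses G, z.coeff (crep c) * (tw M ζ (crep c)).coeff y := by
    rw [MonoidAlgebra.coeff_sum, Finsupp.finsetSum_apply]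
    rfl
  rw [h1, Finset.sum_eq_single (ConjClasses.mk y)]
  · obtain ⟨g, hg⟩ := isConj_iff.1 (isConj_crep y)
    by_cases h0 : z.coeff (crep (ConjClasses.mk y)) = 0
    · rw [h0, zero_mul]
      have := hz g (crep (ConjClasses.mk y))
      rw [h0, mul_zero, hg] at this
      exact this
    · have h2 := coeff_tw (M := M) (hz.centralizer_le hM hζ h0) g
      rw [hg] at h2
      rw [h2, mul_comm, zr_apply, ← hz g, hg]
  · intro c _ hc
    rw [coeff_tw_of_not, mul_zero]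
    rintro ⟨g, hg⟩
    apply hc
    rw [← mk_crep c]
    exact ConjClasses.mk_eq_mk_iff_isConj.2 (isConj_iff.2 ⟨g, hg⟩)
  · intro h
    exact absurd (Finset.mem_univ _) h

/-- a sum of commuting nilpotent elements -/
theorem isNilpotent_sum' {A ι : Type*} [Ring A] (s : Finset ι) (f : ι → A)
    (hc : ∀ i ∈ s, ∀ j ∈ s, Commute (f i) (f j)) (h : ∀ i ∈ s, IsNilpotent (f i)) :
    IsNilpotent (∑ i ∈ s, f i) := by
  classical
  induction s using Finset.induction_on with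
  | empty => rw [Finset.sum_empty]; exact IsNilpotent.zero
  | insert a s ha ih =>
    rw [Finset.sum_insert ha]
    refine Commute.isNilpotent_add ?_ (h a (Finset.mem_insert_self a s))
      (ih (fun i hi j hj => hc i (Finset.mem_insert_of_mem hi) j (Finset.mem_insert_of_mem hj))
        fun i hi => h i (Finset.mem_insert_of_mem hi))
    exact Commute.sum_right _ _ _ fun i hi =>
      hc a (Finset.mem_insert_self a s) i (Finset.mem_insert_of_mem hi)

theorem IsTw.commute_mul (hM : IsPModular p M) {ζ : G →* ℂˣ} (hζ : PPrime p ζ)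
    {x y e : MonoidAlgebra (ResField M) G} (he : IsCls e) (hx : IsTw ζ x) (hy : IsTw ζ y) :
    Commute (e * x) (e * y) := by
  have h1 : x * y = y * x := hx.commute fun g hg => hy.supp hM hζ hg
  change e * x * (e * y) = e * y * (e * x)
  have h2 : x * e = e * x := (isCls_comm he x).symm
  have h3 : y * e = e * y := (isCls_comm he y).symm
  rw [mul_assoc, ← mul_assoc x e y, h2, mul_assoc e x y, h1, mul_assoc e y, ← mul_assoc y e x, h3,
    mul_assoc e y x]

/-- W1c: `z` is a linear combination of commuting elements `tw ζ x`. -/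
theorem exists_nz (hM : IsPModular p M) {ζ : G →* ℂˣ} (hζ : PPrime p ζ) {B : Set (IrrCharacter G)}
    {z : MonoidAlgebra (ResField M) G} (hz : IsTw ζ z)
    (hn : ¬ IsNilpotent (idem M B * z)) : ∃ x : G, Nz M ζ B x := by
  classical
  have := Fintype.ofFinite (ConjClasses G)
  by_contra hcon
  apply hn
  rw [eq_sum_tw hM hζ hz, Finset.mul_sum]
  have key : ∀ c : ConjClasses G, IsTw ζ (z.coeff (crep c) • tw M ζ (crep c)) := by
    intro c
    by_cases h0 : z.coeff (crep c) = 0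
    · rw [h0, zero_smul]
      exact isTw_zero ζ
    · exact (isTw_tw hM (hz.centralizer_le hM hζ h0)).smul _
  refine isNilpotent_sum' _ _ (fun c _ c' _ =>
    IsTw.commute_mul hM hζ (isCls_idem B) (key c) (key c')) fun c _ => ?_
  by_cases h0 : z.coeff (crep c) = 0
  · rw [h0, zero_smul, mul_zero]
    exact IsNilpotent.zero
  · rw [Algebra.mul_smul_comm, isNilpotent_smul_iff' h0]
    by_contra h1
    exact hcon ⟨_, hz.centralizer_le hM hζ h0, h1⟩

theorem isNilpotent_of_mul_cls {e x : MonoidAlgebra (ResField M) G} (he : IsCls e)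
    (h : IsNilpotent x) : IsNilpotent (e * x) := by
  obtain ⟨n, hn⟩ := h
  have hc : Commute e x := isCls_comm he x
  exact ⟨n, by rw [hc.mul_pow, hn, mul_zero]⟩

theorem lam_res_cjE {N : Subgroup G} [N.Normal] {ζ : G →* ℂˣ} {z : MonoidAlgebra (ResField M) G}
    (hN : N ≤ ζ.ker) (hz : IsTw ζ z) (θ : IrrCharacter N) (g : G) :
    lam M (irrMap (cjE g N N (mem_conj_iff N g)) θ : N → ℂ) (res N z) =
      zr M ζ g * lam M (θ : N → ℂ) (res N z) := by
  have hcls : IsCls (res N z) := by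
    refine isCls_res fun u hu y => ?_
    rw [hz u y, MonoidHom.mem_ker.1 (hN hu), Units.val_one, redC_one, one_mul]
  have h1 := lam_irrMap (M := M) (cjE g N N (mem_conj_iff N g)) θ (x := zr M ζ g • res N z)
    (x' := res N z) (isCls_smul hcls _) (by
      intro y
      rw [coeff_res, coe_cjE, MonoidAlgebra.coeff_smul, Finsupp.smul_apply, coeff_res, hz g y]
      rfl)
  rw [h1, map_smul, smul_eq_mul]

/-- the value of `lam` at an equivariant element is nonzero on all the blocks of `ker ζ` below `B` -/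
theorem lam_ne_zero (hM : IsPModular p M) {ζ : G →* ℂˣ} (hζ : PPrime p ζ)
    {B : Set (IrrCharacter G)} (hB : IsPBlock M B) {z : MonoidAlgebra (ResField M) G} (hz : IsTw ζ z)
    (h : ¬ IsNilpotent (idem M B * z)) [Fintype ζ.ker] {c : Set (IrrCharacter ζ.ker)}
    (hc : IsPBlock M c) (hcov : Covers ζ.ker B c) {θ : IrrCharacter ζ.ker} (hθ : θ ∈ c) :
    lam M (θ : ζ.ker → ℂ) (res ζ.ker z) ≠ 0 := by
  classical
  have : Fact p.Prime := ⟨hM.1⟩
  intro h0
  apply h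
  have hUB := isUnion_of_isPBlock hB
  have hUo := isUnion_orb ζ.ker hc
  obtain ⟨χ, hχ⟩ := isPBlock_nonempty hB
  have hθorb : θ ∈ orb ζ.ker c := ⟨1, by rw [conjN_one]; exact hθ⟩
  have h1 : lam M (χ : G → ℂ) (emb ζ.ker (idem M (orb ζ.ker c))) = 1 := by
    rw [(covers_iff_lam ζ.ker hM hB hc).1 hcov χ hχ θ hθ _ (isCls_emb_idem_orb ζ.ker c)
      fun g hg => emb_idem_supp ζ.ker _ hg, res_emb, lam_idem_of_mem hM hUo hθorb]
  have h2 : emb ζ.ker (idem M (orb ζ.ker c)) * idem M B = idem M B := by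
    refine mul_idem_of_lam_eq_one hM (isCls_emb_idem_orb ζ.ker c) ?_ hUB fun χ' hχ' => ?_
    · rw [← map_mul, idem_mul_self hM hUo]
    · rw [lam_eq_of_mem hB hχ' hχ, h1]
  have hcls : IsCls (res ζ.ker z) := by
    refine isCls_res fun u hu y => ?_
    rw [hz u y, MonoidHom.mem_ker.1 hu, Units.val_one, redC_one, one_mul]
  have h3 : IsNilpotent (idem M (orb ζ.ker c) * res ζ.ker z) := by
    refine isNilpotent_of_lam (isCls_mul (isCls_idem _) hcls) fun ε => ?_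
    rw [lam_mul ε (isCls_idem _) hcls]
    by_cases hε : ε ∈ orb ζ.ker c
    · obtain ⟨g, ε', hε', rfl⟩ := hε
      rw [lam_res_cjE le_rfl hz, lam_eq_of_mem hc hε' hθ, h0, mul_zero, mul_zero]
    · rw [lam_idem_of_notMem hM hUo hε, zero_mul]
  have h4 : emb ζ.ker (res ζ.ker z) = z := by
    refine ext_coeff fun g => ?_
    by_cases hg : g ∈ ζ.ker
    · rw [coeff_emb_of_mem _ hg, coeff_res]
    · rw [coeff_emb_of_notMem _ hg, hz.supp hM hζ hg]
  obtain ⟨n, hn⟩ := h3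
  have h5 : IsNilpotent (emb ζ.ker (idem M (orb ζ.ker c)) * z) := by
    refine ⟨n, ?_⟩
    rw [← h4, ← map_mul, ← map_pow, hn, map_zero]
  rw [← h2, isCls_comm (isCls_emb_idem_orb ζ.ker c) (idem M B), mul_assoc]
  exact isNilpotent_of_mul_cls (isCls_idem B) h5

/-- W1d: the stabiliser of a block of `ker ζ` below `B` is `ker ζ`. -/
theorem stab_le (hM : IsPModular p M) {ζ : G →* ℂˣ} (hζ : PPrime p ζ) {B : Set (IrrCharacter G)}
    (hB : IsPBlock M B) {x : G} (h : Nz M ζ B x) [Fintype ζ.ker] {c : Set (IrrCharacter ζ.ker)}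
    (hc : IsPBlock M c) (hcov : Covers ζ.ker B c) (g : G) (hg : conjN ζ.ker g c = c) : ζ g = 1 := by
  have hz := isTw_tw hM h.1
  obtain ⟨θ, hθ⟩ := isPBlock_nonempty hc
  have h1 := lam_ne_zero hM hζ hB hz h.2 hc hcov hθ
  have h2 : irrMap (cjE g ζ.ker ζ.ker (mem_conj_iff ζ.ker g)) θ ∈ c := by
    rw [← hg]
    exact ⟨θ, hθ, rfl⟩
  have h3 := lam_res_cjE (M := M) (le_refl ζ.ker) hz θ g
  rw [lam_eq_of_mem hc h2 hθ] at h3
  rw [← zr_eq_one_iff hM hζ]
  have h4 : (zr M ζ g - 1) * lam M (θ : ζ.ker → ℂ) (res ζ.ker (tw M ζ x)) = 0 := by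
    rw [sub_mul, one_mul, sub_eq_zero, ← h3]
  rcases mul_eq_zero.1 h4 with h5 | h5
  · exact sub_eq_zero.1 h5
  · exact absurd h5 h1

/-- the converse criterion -/
theorem not_isNilpotent_of_lam (hM : IsPModular p M) {ζ : G →* ℂˣ} (hζ : PPrime p ζ)
    {B : Set (IrrCharacter G)} (hB : IsPBlock M B) {z : MonoidAlgebra (ResField M) G} (hz : IsTw ζ z)
    [Fintype ζ.ker] {c : Set (IrrCharacter ζ.ker)} (hc : IsPBlock M c) (hcov : Covers ζ.ker B c)
    {θ : IrrCharacter ζ.ker} (hθ : θ ∈ c) (h : lam M (θ : ζ.ker → ℂ) (res ζ.ker z) ≠ 0) :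
    ¬ IsNilpotent (idem M B * z) := by
  classical
  have : Fact p.Prime := ⟨hM.1⟩
  rintro ⟨n, hn⟩
  obtain ⟨k, hk, hpk, hζk⟩ := hζ
  have hUB := isUnion_of_isPBlock hB
  have hcls : IsCls (res ζ.ker z) := by
    refine isCls_res fun u hu y => ?_
    rw [hz u y, MonoidHom.mem_ker.1 hu, Units.val_one, redC_one, one_mul]
  have h4 : emb ζ.ker (res ζ.ker z) = z := by
    refine ext_coeff fun g => ?_
    by_cases hg : g ∈ ζ.ker
    · rw [coeff_emb_of_mem _ hg, coeff_res]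
    · rw [coeff_emb_of_notMem _ hg, hz.supp hM ⟨k, hk, hpk, hζk⟩ hg]
  have hcomm : Commute (idem M B) z := isCls_comm (isCls_idem B) z
  have h5 : idem M B * z ^ (k * (n + 1)) = 0 := by
    have h6 : (idem M B * z) ^ (k * (n + 1)) = 0 := by
      obtain ⟨m, hm⟩ : ∃ m, k * (n + 1) = n + m := ⟨k * (n + 1) - n, by
        have : n + 1 ≤ k * (n + 1) := Nat.le_mul_of_pos_left _ hk
        omega⟩
      rw [hm, pow_add, hn, zero_mul]
    rw [hcomm.mul_pow] at h6
    have h7 : idem M B ^ (k * (n + 1)) = idem M B := by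
      have h8 : IsIdempotentElem (idem M B) := idem_mul_self hM hUB
      exact h8.pow_eq (Nat.mul_ne_zero hk.ne' (Nat.succ_ne_zero n))
    rwa [h7] at h6
  have h6 : IsCls (z ^ (k * (n + 1))) :=
    hz.isCls_pow fun g => by rw [pow_mul, hζk, one_pow]
  obtain ⟨χ, hχ⟩ := isPBlock_nonempty hB
  have h7 : lam M (χ : G → ℂ) (z ^ (k * (n + 1))) = 0 := by
    have h8 := congrArg (lam M (χ : G → ℂ)) h5
    rwa [lam_mul χ (isCls_idem _) h6, lam_idem_of_mem hM hUB hχ, one_mul, map_zero] at h8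
  have h8 : res ζ.ker (z ^ (k * (n + 1))) = (res ζ.ker z) ^ (k * (n + 1)) := by
    have h9 : z ^ (k * (n + 1)) = emb ζ.ker ((res ζ.ker z) ^ (k * (n + 1))) := by
      rw [map_pow, h4]
    rw [h9, res_emb]
  have h9 := (covers_iff_lam ζ.ker hM hB hc).1 hcov χ hχ θ hθ _ h6 (by
    intro g hg
    have h9 : z ^ (k * (n + 1)) = emb ζ.ker ((res ζ.ker z) ^ (k * (n + 1))) := by
      rw [map_pow, h4]
    rw [h9, coeff_emb_of_notMem _ hg])
  rw [h7, h8, lam_pow θ hcls] at h9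
  exact h ((pow_eq_zero_iff (Nat.mul_ne_zero hk.ne' (Nat.succ_ne_zero n))).1 h9.symm)

end

end Cfsg.Agent.H624.Sl
end

-- part: H666/Clif/Sec
section
/-!
# The descent inequality in terms of labels (sections 2 and 3 of `tools/plans/S4536_577.md`)

Abstract form (for `GL_n(q)` and `GU_n(q)`): `R : Rz Q M p n G` realizes the standard model in the class functions of
`G`, `S` is normal in `G` with cyclic quotient, and the linear characters of `G / S` are labelled by the `a : ZMod M`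
with `TorZ Q M 1 a`.
-/

set_option autoImplicit false
set_option linter.unusedSectionVars false

open Cfsg
open scoped ComplexConjugate

namespace Cfsg.Agent.H666.Clif

open Cfsg.Agent.H577.GLB Cfsg.Agent.H577.GLB.Std Cfsg.Agent.H614 Cfsg.Agent.H112.GLB
open Cfsg.Agent.H657 Cfsg.Agent.H608.BlockRank Cfsg.Agent.Blocks.Basic Cfsg.Agent.Blocks.Local

universe u

section

variable {Q : ℤ} {M : ℕ} [NeZero M] {p n : ℕ} {G : Type u} [Group G] [Finite G]

/-- the linear characters of `G / S` are labelled by the `a` with `TorZ Q M 1 a` -/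
structure LinData (R : Rz Q M p n G) (S : Subgroup G) where
  /-- the linear character with label `a` -/
  ln : ZMod M → (G →* ℂˣ)
  triv : ∀ a, TorZ Q M 1 a → ∀ x ∈ S, ln a x = 1
  surj : ∀ l : G →* ℂˣ, (∀ x ∈ S, l x = 1) → ∃ a, TorZ Q M 1 a ∧ ln a = l
  ord : ∀ a, TorZ Q M 1 a → orderOf (ln a) = addOrderOf a
  tw : ∀ a, TorZ Q M 1 a → ∀ x ∈ Hom Q M n,
    R.om (twist Q M a x) = (fun g => (ln a g : ℂ)) * R.om x

namespace LinData

variable {R : Rz Q M p n G} {S : Subgroup G} (L : LinData R S) {𝔐 : Ideal AlgInt} {V : ValuationSubring ℂ}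

include L

/-- the label of a linear character of `G / S` -/
noncomputable def lab (l : APrime S p) : ZMod M := (L.surj l.1 l.2.1).choose

theorem lab_spec (l : APrime S p) : TorZ Q M 1 (L.lab l) ∧ L.ln (L.lab l) = l.1 :=
  (L.surj l.1 l.2.1).choose_spec

theorem lab_pReg (l : APrime S p) : PReg M p (L.lab l) := by
  have h := l.2.2
  rw [← (L.lab_spec l).2, L.ord _ (L.lab_spec l).1] at h
  exact h

theorem lab_injective : Function.Injective L.lab := by
  intro l l' h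
  apply Subtype.ext
  rw [← (L.lab_spec l).2, ← (L.lab_spec l').2, h]

open Classical in
/-- the fixed points of the linear characters of order prime to `p` -/
theorem sum_fix_le (h𝔐 : IsPModular p 𝔐) (hV : Above 𝔐 V) {m : ℕ} (hm : n ≤ m) (hlab : R.Bij m)
    {B : Set (IrrCharacter G)} (hB : IsPBlock 𝔐 B) {χ : IrrCharacter G} (hχ : χ ∈ B) {t : LabZ Q M m n}
    (ht : R.IsLb χ t) [Fintype (APrime S p)] :
    ∑ l : APrime S p, Nat.card {i : IBr V G // i ∈ ibrUnder V B ∧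
        (fun g => ((l : G →* ℂˣ) g : ℂ) * phi p i g) = phi p i} ≤
      ∑ a ∈ Finset.univ.filter (fun a : ZMod M => Stab Q M p t a), nfix Q M p t a := by
  have hMp := isPrime_of_isPModular h𝔐
  set f : APrime S p → ℕ := fun l => Nat.card {i : IBr V G // i ∈ ibrUnder V B ∧
        (fun g => ((l : G →* ℂˣ) g : ℂ) * phi p i g) = phi p i} with hf
  have h1 : ∀ l, f l ≤ nfix Q M p t (L.lab l) := by
    intro l
    refine R.card_fixed_le' h𝔐 hV hm hlab hB hχ ht (L.lab l) (L.lab_spec l).1 (L.lab_pReg l) l.1 ?_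
    intro x hx
    rw [L.tw _ (L.lab_spec l).1 x hx, (L.lab_spec l).2]
  have h2 : ∀ l, f l ≠ 0 → Stab Q M p t (L.lab l) := by
    intro l hl
    have hne : Nonempty {i : IBr V G // i ∈ ibrUnder V B ∧
        (fun g => ((l : G →* ℂˣ) g : ℂ) * phi p i g) = phi p i} := by
      by_contra h
      rw [not_nonempty_iff] at h
      exact hl Nat.card_of_isEmpty
    obtain ⟨i, hi, hfix⟩ := hne
    have h3 : i ∈ ibrUnder V (tl l.1 '' B) :=
      ibrUnder_tl h𝔐 hV hB (fun g => (congrFun hfix g).symm) hi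
    have h4 : tl l.1 '' B = B := eq_of_ibrUnder h𝔐 hV (isPBlock_tl hMp l.1 hB) hB h3 hi
    have h5 : tl l.1 χ ∈ B := h4 ▸ ⟨χ, hχ, rfl⟩
    refine R.stab_of_block (χ := χ) (χ' := tl l.1 χ) (B := B) (l := fun g => (l.1 g : ℂ))
      (fun χ hχ χ' hχ' t t' ht ht' => R.sameFam_of_mem h𝔐 hm hlab hB hχ hχ' ht ht') hχ h5 ht _
      (L.lab_spec l).1 (L.lab_pReg l) ?_ ?_
    · intro x hx
      rw [L.tw _ (L.lab_spec l).1 x hx, (L.lab_spec l).2]
    · rfl
  calc ∑ l : APrime S p, f l = ∑ l ∈ Finset.univ.filter (fun l => f l ≠ 0), f l :=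
        (Finset.sum_filter_ne_zero _).symm
    _ ≤ ∑ l ∈ Finset.univ.filter (fun l => f l ≠ 0), nfix Q M p t (L.lab l) :=
        Finset.sum_le_sum fun l _ => h1 l
    _ = ∑ a ∈ (Finset.univ.filter (fun l => f l ≠ 0)).image L.lab, nfix Q M p t a :=
        (Finset.sum_image fun l _ l' _ h => L.lab_injective h).symm
    _ ≤ ∑ a ∈ Finset.univ.filter (fun a : ZMod M => Stab Q M p t a), nfix Q M p t a := by
        refine Finset.sum_le_sum_of_subset ?_
        intro a ha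
        obtain ⟨l, hl, rfl⟩ := Finset.mem_image.1 ha
        exact Finset.mem_filter.2 ⟨Finset.mem_univ _, h2 l (Finset.mem_filter.1 hl).2⟩

open Classical in
/-- The descent inequality in terms of labels. -/
theorem desc_SF (h𝔐 : IsPModular p 𝔐) (hV : Above 𝔐 V) [S.Normal] (hcyc : IsCyclic (G ⧸ S)) {m : ℕ}
    (hm : n ≤ m) (hlab : R.Bij m) {B : Set (IrrCharacter G)} (hB : IsPBlock 𝔐 B)
    {B' : Set (IrrCharacter S)} (hB' : IsPBlock 𝔐 B') (hcov : Cov S B B')
    {χ : IrrCharacter G} (hχ : χ ∈ B) {t : LabZ Q M m n} (ht : R.IsLb χ t)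
    (hgen : ∃ a : ZMod M, SF Q M p t a ∧
      addOrderOf a = (Finset.univ.filter fun b : ZMod M => SF Q M p t b).card)
    [𝔐.IsPrime] (hNz : ∀ a : ZMod M, SF Q M p t a → ∃ x : G, H624.Sl.Nz 𝔐 (L.ln a) B x) (k : ℕ)
    (hk : ∀ (l : G →* ℂˣ) (χ' : IrrCharacter G), χ' ∈ B → (∀ x ∈ S, l x = 1) → (∃ j : ℕ, orderOf l = p ^ j) →
      (∀ g, (l g : ℂ) * (χ' : G → ℂ) g = (χ' : G → ℂ) g) → orderOf l ≤ k) :
    blockRank p B' * (Finset.univ.filter fun b : ZMod M => SF Q M p t b).card ≤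
      k * ∑ a ∈ Finset.univ.filter (fun a : ZMod M => Stab Q M p t a), nfix Q M p t a := by
  obtain ⟨a, ha, hord⟩ := hgen
  have hta : TorZ Q M 1 a := ha.1.1
  have hpa : PReg M p a := ha.1.2.1
  obtain ⟨x, hx⟩ := hNz a ha
  have hPP : H624.Sl.PPrime p (L.ln a) := by
    refine ⟨orderOf (L.ln a), ?_, ?_, ?_⟩
    · rw [L.ord a hta]
      exact addOrderOf_pos a
    · rw [L.ord a hta]
      exact fun h => h𝔐.1.one_lt.ne' (Nat.eq_one_of_dvd_coprimes hpa h (dvd_refl p))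
    · intro g
      rw [← MonoidHom.pow_apply, pow_orderOf_eq_one]
      rfl
  have := Fintype.ofFinite (L.ln a).ker
  have := finite_APrime S p inferInstance hcyc
  have := Fintype.ofFinite (APrime S p)
  have h1 := desc_le_fix h𝔐 hV S hcyc hB hB' hcov (L.ln a) (L.triv a hta)
    (fun c hc hcc g hg => H624.Sl.stab_le h𝔐 hPP hB hx hc hcc g hg) k (by
      intro i hi Q' hQ'
      obtain ⟨l, χ', h1, h2, h3, h4, h5⟩ := exists_fixed_pKer h𝔐 hV S hcyc hB hi hQ'
      rw [← h3] at h4 ⊢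
      exact hk l χ' h1 h2 h4 h5)
  rw [L.ord a hta, hord] at h1
  exact h1.trans (Nat.mul_le_mul_left _ (L.sum_fix_le h𝔐 hV hm hlab hB hχ ht))

/-- **Section 2.** -/
theorem blockRank_le_of_coprime (h𝔐 : IsPModular p 𝔐) (hV : Above 𝔐 V) [S.Normal] (hcyc : IsCyclic (G ⧸ S))
    (hidx : (S.index).Coprime p) (hQp : IsUnit (Q : ZMod p)) {m : ℕ}
    (hm : n ≤ m) (hlab : R.Bij m) {B : Set (IrrCharacter G)} (hB : IsPBlock 𝔐 B)
    {B' : Set (IrrCharacter S)} (hB' : IsPBlock 𝔐 B') (hcov : Cov S B B')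
    {χ : IrrCharacter G} (hχ : χ ∈ B) {t : LabZ Q M m n} (ht : R.IsLb χ t) (ht' : POnly M p t.t)
    (hgen : ∃ a : ZMod M, SF Q M p t a ∧ addOrderOf a = Nat.card {b : ZMod M // SF Q M p t b})
    [𝔐.IsPrime] (hNz : ∀ a : ZMod M, SF Q M p t a → ∃ x : G, H624.Sl.Nz 𝔐 (L.ln a) B x) :
    blockRank p B' ≤ p ^ totW Q M p t.t := by
  classical
  have hcard : Nat.card {b : ZMod M // SF Q M p t b} =
      (Finset.univ.filter fun b : ZMod M => SF Q M p t b).card := by
    rw [Nat.card_eq_fintype_card, Fintype.card_subtype]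
  rw [hcard] at hgen
  have h1 := L.desc_SF h𝔐 hV hcyc hm hlab hB hB' hcov hχ ht hgen hNz 1 (by
    intro l χ' _ hl hj _
    obtain ⟨j, hj⟩ := hj
    rcases Nat.eq_zero_or_pos j with h0 | h0
    · rw [hj, h0, pow_zero]
    · exfalso
      have h2 : orderOf l ∣ S.index := by
        rw [← index_ker]
        exact Subgroup.index_dvd_of_le (fun x hx => hl x hx)
      rw [hj] at h2
      exact h𝔐.1.one_lt.ne' (Nat.eq_one_of_dvd_coprimes hidx ((dvd_pow_self p h0.ne').trans h2) (dvd_refl p)))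
  rw [one_mul] at h1
  have h2 := h1.trans (H610.GLB.sum_nfix_le h𝔐.1 R.unit hQp hm t ht')
  rw [mul_comm] at h2
  refine Nat.le_of_mul_le_mul_left h2 ?_
  obtain ⟨a, ha, -⟩ := hgen
  exact Finset.card_pos.2 ⟨a, Finset.mem_filter.2 ⟨Finset.mem_univ _, ha⟩⟩


/-- The label of a character fixed by a linear character of `G / S`. -/
theorem fixed_label {m : ℕ} (hlab : R.Bij m) {l : G →* ℂˣ} (hl : ∀ x ∈ S, l x = 1)
    {χ : IrrCharacter G} (hfix : ∀ g, (l g : ℂ) * (χ : G → ℂ) g = (χ : G → ℂ) g) {t : LabZ Q M m n}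
    (ht : R.IsLb χ t) : ∃ a : ZMod M, TorZ Q M 1 a ∧ L.ln a = l ∧ ∀ c, t.t (c + a) = t.t c := by
  obtain ⟨a, ha, hal⟩ := L.surj l hl
  refine ⟨a, ha, hal, ?_⟩
  have h1 : R.IsLb χ (shiftL t ha) := by
    refine R.isLb_shift ht ha (l := fun g => (l g : ℂ)) ?_ ?_
    · intro x hx
      rw [L.tw a ha x hx, hal]
    · funext g
      exact (hfix g).symm
  obtain ⟨t₁, -, huniq⟩ := hlab.1 χ
  have h2 : shiftL t ha = t := (huniq _ h1).trans (huniq _ ht).symm
  intro c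
  have h3 := congrFun (congrArg LabZ.t h2) (c + a)
  change t.t (c + a - a) = t.t (c + a) at h3
  rw [add_sub_cancel_right] at h3
  exact h3.symm

/-- (3b) The order of a linear character of `p`-power order fixing a member of the block divides all the
multiplicities. -/
theorem dvd_bsz (h𝔐 : IsPModular p 𝔐) {m : ℕ} (hm : n ≤ m) (hlab : R.Bij m) {B : Set (IrrCharacter G)}
    (hB : IsPBlock 𝔐 B) {χ : IrrCharacter G} (hχ : χ ∈ B) {t : LabZ Q M m n} (ht : R.IsLb χ t)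
    (ht' : POnly M p t.t) {l : G →* ℂˣ} {χ' : IrrCharacter G} (hχ' : χ' ∈ B) (hl : ∀ x ∈ S, l x = 1) {j : ℕ}
    (hj : orderOf l = p ^ j) (hfix : ∀ g, (l g : ℂ) * (χ' : G → ℂ) g = (χ' : G → ℂ) g) (δ : ZMod M) :
    p ^ j ∣ bsz (t.t δ) := by
  obtain ⟨t₁, ht₁, -⟩ := hlab.1 χ'
  obtain ⟨a, ha, hal, hfa⟩ := L.fixed_label hlab hl hfix ht₁
  have hord : addOrderOf a = p ^ j := by rw [← L.ord a ha, hal, hj]
  by_cases hδ : PReg M p δ
  · have h1 := H157.GLB.dvd_sfun h𝔐.1 t₁.t a ⟨j, hord⟩ hfa δ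
    rw [hord] at h1
    have h2 := (R.sameFam_of_mem h𝔐 hm hlab hB hχ hχ' ht ht₁ δ hδ).1
    rw [← h2, H610.GLB.sfun_eq ht' hδ] at h1
    exact h1
  · rw [ht' δ hδ]
    exact dvd_zero _

/-- There is a largest order of a linear character of `p`-power order fixing a member of the block. -/
theorem exists_max (h𝔐 : IsPModular p 𝔐) [S.Normal] {m : ℕ} (hm : n ≤ m) (hlab : R.Bij m)
    {B : Set (IrrCharacter G)}
    (hB : IsPBlock 𝔐 B) {χ : IrrCharacter G} (hχ : χ ∈ B) {t : LabZ Q M m n} (ht : R.IsLb χ t)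
    (ht' : POnly M p t.t) : ∃ j : ℕ, (∀ δ, p ^ j ∣ bsz (t.t δ)) ∧
      ∀ (l : G →* ℂˣ) (χ' : IrrCharacter G), χ' ∈ B → (∀ x ∈ S, l x = 1) → (∃ j : ℕ, orderOf l = p ^ j) →
      (∀ g, (l g : ℂ) * (χ' : G → ℂ) g = (χ' : G → ℂ) g) → orderOf l ≤ p ^ j := by
  classical
  let P : ℕ → Prop := fun j => ∃ (l : G →* ℂˣ) (χ' : IrrCharacter G), χ' ∈ B ∧ (∀ x ∈ S, l x = 1) ∧
    orderOf l = p ^ j ∧ ∀ g, (l g : ℂ) * (χ' : G → ℂ) g = (χ' : G → ℂ) g
  have hbd : ∀ j, P j → j ≤ S.index := by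
    rintro j ⟨l, χ', -, hl, ho, -⟩
    have h2 : orderOf l ∣ S.index := by
      rw [← index_ker]
      exact Subgroup.index_dvd_of_le (fun x hx => hl x hx)
    have h3 := Nat.le_of_dvd (Nat.pos_of_ne_zero Subgroup.index_ne_zero_of_finite) h2
    rw [ho] at h3
    exact (Nat.lt_pow_self h𝔐.1.one_lt).le.trans h3
  have h0 : P 0 := ⟨1, χ, hχ, fun x _ => rfl, by rw [orderOf_one, pow_zero], fun g => by
    rw [MonoidHom.one_apply, Units.val_one, one_mul]⟩
  have hspec := Nat.findGreatest_spec (P := P) (Nat.zero_le S.index) h0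
  refine ⟨Nat.findGreatest P S.index, ?_, ?_⟩
  · obtain ⟨l, χ', h1, h2, h3, h4⟩ := hspec
    exact L.dvd_bsz h𝔐 hm hlab hB hχ ht ht' h1 h2 h3 h4
  · rintro l χ' h1 h2 ⟨j, h3⟩ h4
    have hPj : P j := ⟨l, χ', h1, h2, h3, h4⟩
    rw [h3]
    exact Nat.pow_le_pow_right h𝔐.1.pos (Nat.le_findGreatest (hbd j hPj) hPj)

/-- (ii) The linear characters of order prime to `p` fixing a Brauer character of the block stabilise the family. -/
theorem card_fixing_le (h𝔐 : IsPModular p 𝔐) (hV : Above 𝔐 V) [S.Normal] (hcyc : IsCyclic (G ⧸ S)) {m : ℕ}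
    (hm : n ≤ m) (hlab : R.Bij m) {B : Set (IrrCharacter G)} (hB : IsPBlock 𝔐 B) {χ : IrrCharacter G}
    (hχ : χ ∈ B) {t : LabZ Q M m n} (ht : R.IsLb χ t) {i : IBr V G} (hi : i ∈ ibrUnder V B) :
    Nat.card {l : G →* ℂˣ // ((∀ x ∈ S, l x = 1) ∧ (orderOf l).Coprime p) ∧
      (fun g => (l g : ℂ) * phi p i g) = phi p i} ≤ Nat.card {a : ZMod M // Stab Q M p t a} := by
  have hMp := isPrime_of_isPModular h𝔐
  have := finite_APrime S p inferInstance hcyc
  let f : {l : G →* ℂˣ // ((∀ x ∈ S, l x = 1) ∧ (orderOf l).Coprime p) ∧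
      (fun g => (l g : ℂ) * phi p i g) = phi p i} → {a : ZMod M // Stab Q M p t a} := fun l =>
    ⟨L.lab ⟨l.1, l.2.1⟩, by
      have hfix := l.2.2
      have h3 : i ∈ ibrUnder V (tl l.1 '' B) :=
        ibrUnder_tl h𝔐 hV hB (fun g => (congrFun hfix g).symm) hi
      have h4 : tl l.1 '' B = B := eq_of_ibrUnder h𝔐 hV (isPBlock_tl hMp l.1 hB) hB h3 hi
      have h5 : tl l.1 χ ∈ B := h4 ▸ ⟨χ, hχ, rfl⟩
      refine R.stab_of_block (χ := χ) (χ' := tl l.1 χ) (B := B) (l := fun g => (l.1 g : ℂ))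
        (fun χ hχ χ' hχ' t t' ht ht' => R.sameFam_of_mem h𝔐 hm hlab hB hχ hχ' ht ht') hχ h5 ht _
        (L.lab_spec ⟨l.1, l.2.1⟩).1 (L.lab_pReg ⟨l.1, l.2.1⟩) ?_ ?_
      · intro x hx
        rw [L.tw _ (L.lab_spec ⟨l.1, l.2.1⟩).1 x hx, (L.lab_spec ⟨l.1, l.2.1⟩).2]
      · rfl⟩
  refine Nat.card_le_card_of_injective f ?_
  intro l l' h
  have h0 : L.lab ⟨l.1, l.2.1⟩ = L.lab ⟨l'.1, l'.2.1⟩ := congrArg (fun z : {a : ZMod M // Stab Q M p t a} => z.1) h
  have h1 := L.lab_injective h0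
  exact Subtype.ext (congrArg (fun z : APrime S p => (z : G →* ℂˣ)) h1)

/-- (iii) The number of constituents on `pKer S p` divides all the multiplicities. -/
theorem card_pKer_dvd (h𝔐 : IsPModular p 𝔐) (hV : Above 𝔐 V) [S.Normal] (hcyc : IsCyclic (G ⧸ S)) {m : ℕ}
    (hm : n ≤ m) (hlab : R.Bij m) {B : Set (IrrCharacter G)} (hB : IsPBlock 𝔐 B) {χ : IrrCharacter G}
    (hχ : χ ∈ B) {t : LabZ Q M m n} (ht : R.IsLb χ t) (ht' : POnly M p t.t) {i : IBr V G}
    (hi : i ∈ ibrUnder V B) {O : Finset (IBr V (pKer S p))} (hO : IsRes p (pKer S p) i O) (δ : ZMod M) :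
    O.card ∣ bsz (t.t δ) := by
  obtain ⟨l, χ', h1, h2, h3, ⟨j, h4⟩, h5⟩ := exists_fixed_pKer h𝔐 hV S hcyc hB hi hO
  rw [h4] at h3 ⊢
  exact L.dvd_bsz h𝔐 hm hlab hB hχ ht ht' h1 h2 h3 h5 δ

/-- (i) The descent inequality, `κ` on the right-hand side. -/
theorem desc_SF_kappa (h𝔐 : IsPModular p 𝔐) (hV : Above 𝔐 V) [S.Normal] (hcyc : IsCyclic (G ⧸ S)) {m : ℕ}
    {B : Set (IrrCharacter G)} (hB : IsPBlock 𝔐 B)
    {B' : Set (IrrCharacter S)} (hB' : IsPBlock 𝔐 B') (hcov : Cov S B B') {t : LabZ Q M m n}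
    (hgen : ∃ a : ZMod M, SF Q M p t a ∧ addOrderOf a = Nat.card {b : ZMod M // SF Q M p t b})
    [𝔐.IsPrime] (hNz : ∀ a : ZMod M, SF Q M p t a → ∃ x : G, H624.Sl.Nz 𝔐 (L.ln a) B x)
    [Fintype (ibrUnder V B)] (O : IBr V G → Finset (IBr V (pKer S p)))
    (hO : ∀ i ∈ ibrUnder V B, IsRes p (pKer S p) i (O i)) :
    blockRank p B' * Nat.card {b : ZMod M // SF Q M p t b} ≤ ∑ i : ibrUnder V B,
      Nat.card {l : G →* ℂˣ // ((∀ x ∈ S, l x = 1) ∧ (orderOf l).Coprime p) ∧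
        (fun g => (l g : ℂ) * phi p (i : IBr V G) g) = phi p (i : IBr V G)} * (O i).card := by
  obtain ⟨a, ha, hord⟩ := hgen
  have hta : TorZ Q M 1 a := ha.1.1
  have hpa : PReg M p a := ha.1.2.1
  obtain ⟨x, hx⟩ := hNz a ha
  have hPP : H624.Sl.PPrime p (L.ln a) := by
    refine ⟨orderOf (L.ln a), ?_, ?_, ?_⟩
    · rw [L.ord a hta]
      exact addOrderOf_pos a
    · rw [L.ord a hta]
      exact fun h => h𝔐.1.one_lt.ne' (Nat.eq_one_of_dvd_coprimes hpa h (dvd_refl p))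
    · intro g
      rw [← MonoidHom.pow_apply, pow_orderOf_eq_one]
      rfl
  have := Fintype.ofFinite (L.ln a).ker
  have h1 := desc_le h𝔐 hV S hcyc hB hB' hcov (L.ln a) (L.triv a hta)
    (fun c hc hcc g hg => H624.Sl.stab_le h𝔐 hPP hB hx hc hcc g hg) O hO
  rw [L.ord a hta, hord] at h1
  exact h1

/-- **Section 3, (3c).** -/
theorem mul_blockRank_le_of_one (h𝔐 : IsPModular p 𝔐) (hV : Above 𝔐 V) [S.Normal] (hcyc : IsCyclic (G ⧸ S))
    (hQp : (Q : ZMod p) = 1) {m : ℕ} (hn : 0 < n)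
    (hm : n ≤ m) (hlab : R.Bij m) {B : Set (IrrCharacter G)} (hB : IsPBlock 𝔐 B)
    {B' : Set (IrrCharacter S)} (hB' : IsPBlock 𝔐 B') (hcov : Cov S B B')
    {χ : IrrCharacter G} (hχ : χ ∈ B) {t : LabZ Q M m n} (ht : R.IsLb χ t) (ht' : POnly M p t.t)
    (hgen : ∃ a : ZMod M, SF Q M p t a ∧ addOrderOf a = Nat.card {b : ZMod M // SF Q M p t b})
    [𝔐.IsPrime] (hNz : ∀ a : ZMod M, SF Q M p t a → ∃ x : G, H624.Sl.Nz 𝔐 (L.ln a) B x)
    (hex : ¬ (p = 2 ∧ ∃ δ0, (∀ δ, 0 < bsz (t.t δ) → SameZ Q M δ0 δ) ∧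
      (bsz (t.t δ0) = 2 ∨ bsz (t.t δ0) = 4 ∨ bsz (t.t δ0) = 8))) :
    p * blockRank p B' ≤ p ^ totW Q M p t.t := by
  classical
  have hcard : Nat.card {b : ZMod M // SF Q M p t b} =
      (Finset.univ.filter fun b : ZMod M => SF Q M p t b).card := by
    rw [Nat.card_eq_fintype_card, Fintype.card_subtype]
  rw [hcard] at hgen
  obtain ⟨j, hj, hj'⟩ := L.exists_max h𝔐 hm hlab hB hχ ht ht'
  have h1 := L.desc_SF h𝔐 hV hcyc hm hlab hB hB' hcov hχ ht hgen hNz (p ^ j) hj'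
  have h2 := H610.GLB.sum_nfix_le_one h𝔐.1 R.unit hQp hm hn t ht' j hj hex
  have h3 := (Nat.mul_le_mul_left p h1).trans h2
  rw [mul_comm (blockRank p B'), ← mul_assoc, mul_comm p, mul_assoc] at h3
  refine Nat.le_of_mul_le_mul_left h3 ?_
  obtain ⟨a, ha, -⟩ := hgen
  exact Finset.card_pos.2 ⟨a, Finset.mem_filter.2 ⟨Finset.mem_univ _, ha⟩⟩

end LinData

end

end Cfsg.Agent.H666.Clif
end

-- part: H666/Clif/Lin
section
/-!
# Linear characters of `GL_n(F)` and labels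
-/

set_option autoImplicit false
set_option linter.unusedSectionVars false

open Cfsg Polynomial
open scoped MatrixGroups

namespace Cfsg.Agent.H666.Clif

open Cfsg.Agent.H614.GLn Cfsg.Agent.H577.GLB.Std Cfsg.Agent.H577.GLB.Real Cfsg.Agent.H624.Sl

universe u w

section

variable {F : Type u} [Field F] {K : Type w} [Field K] [Algebra F K] {θ : K →*₀ ℂ} {N M : ℕ}

theorem hom_pow_add {A B : Type*} [Monoid A] [CommMonoid B] (f : A →* B) (i j : ℕ) :
    f ^ (i + j) = f ^ i * f ^ j := by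
  ext x
  rw [MonoidHom.pow_apply, MonoidHom.mul_apply, MonoidHom.pow_apply, MonoidHom.pow_apply, pow_add]

theorem hom_pow_zero {A B : Type*} [Monoid A] [CommMonoid B] (f : A →* B) : f ^ 0 = 1 := by
  ext x
  rw [MonoidHom.pow_apply, pow_zero]
  rfl

theorem hom_pow_succ {A B : Type*} [Monoid A] [CommMonoid B] (f : A →* B) (i : ℕ) :
    f ^ (i + 1) = f ^ i * f := by
  ext x
  rw [MonoidHom.pow_apply, MonoidHom.mul_apply, MonoidHom.pow_apply, pow_succ]

/-- the basic linear character of `Fˣ` -/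
noncomputable def thH (F : Type u) [Field F] {K : Type w} [Field K] [Algebra F K] (θ : K →*₀ ℂ) : Fˣ →* ℂˣ :=
  (Units.map (θ : K →* ℂ)).comp (Units.map (algebraMap F K : F →* K))

theorem linH_eq (a : ZMod M) : linH F θ M a = thH F θ ^ expo (Nat.card F) M 1 a := by
  ext y
  simp [linH, thH]

variable (hctx : Ctx F θ N M)
include hctx

theorem two_le_card : 2 ≤ Nat.card F := by
  have := hctx.finF
  exact Finite.one_lt_card

theorem thH_injective : Function.Injective (thH F θ) := by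
  intro x y h
  have h1 := congrArg (fun z : ℂˣ => (z : ℂ)) h
  simp only [thH, MonoidHom.comp_apply, Units.coe_map] at h1
  have h2 := hctx.inj h1
  exact Units.ext ((algebraMap F K).injective h2)

theorem card_units : Nat.card Fˣ = Nat.card F - 1 := by
  classical
  have := hctx.finF
  have := Fintype.ofFinite F
  rw [Nat.card_eq_fintype_card, Nat.card_eq_fintype_card, Fintype.card_units]

theorem thH_pow : thH F θ ^ (Nat.card F - 1) = 1 := by
  have := hctx.finF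
  ext y
  rw [MonoidHom.pow_apply, ← map_pow, ← card_units hctx, pow_card_eq_one', map_one]
  rfl

theorem orderOf_thH : orderOf (thH F θ) = Nat.card F - 1 := by
  have := hctx.finF
  refine Nat.dvd_antisymm (orderOf_dvd_of_pow_eq_one (thH_pow hctx)) ?_
  rw [← card_units hctx, ← IsCyclic.exponent_eq_card]
  refine Monoid.exponent_dvd_of_forall_pow_eq_one fun y => ?_
  apply thH_injective hctx
  rw [map_pow, map_one, ← MonoidHom.pow_apply, pow_orderOf_eq_one]
  rfl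

theorem thH_gen (α : Fˣ →* ℂˣ) : ∃ e : ℕ, α = thH F θ ^ e := by
  have := hctx.finF
  obtain ⟨g, hg⟩ := IsCyclic.exists_generator (α := Fˣ)
  have ho : orderOf g = Nat.card Fˣ := orderOf_eq_card_of_forall_mem_zpowers hg
  have hpos : 0 < orderOf g := orderOf_pos g
  have h1 : IsPrimitiveRoot ((thH F θ g : ℂˣ) : ℂ) (orderOf g) := by
    rw [IsPrimitiveRoot.coe_units_iff, IsPrimitiveRoot.iff_orderOf]
    exact orderOf_injective (thH F θ) (thH_injective hctx) g
  have : NeZero (orderOf g) := ⟨hpos.ne'⟩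
  obtain ⟨e, -, he⟩ := h1.eq_pow_of_pow_eq_one (ξ := ((α g : ℂˣ) : ℂ)) (by
    rw [← Units.val_pow_eq_pow_val, ← map_pow, pow_orderOf_eq_one, map_one, Units.val_one])
  refine ⟨e, ?_⟩
  have h2 : α g = (thH F θ ^ e) g := by
    apply Units.ext
    rw [MonoidHom.pow_apply, Units.val_pow_eq_pow_val, he]
  ext y
  obtain ⟨k, rfl⟩ := Subgroup.mem_zpowers_iff.1 (hg y)
  rw [map_zpow, map_zpow, h2]

variable (hN : 1 ≤ N)
include hN

/-- `M / (q - 1)` -/
theorem exists_dd [NeZero M] : ∃ d : ℕ, 0 < d ∧ M = d * (Nat.card F - 1) := by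
  have h1 := hctx.dvd 1 one_pos hN
  rw [pow_one] at h1
  obtain ⟨d, hd⟩ := h1
  refine ⟨d, ?_, by rw [hd, mul_comm]⟩
  rcases Nat.eq_zero_or_pos d with h | h
  · exfalso
    apply NeZero.ne M
    rw [hd, h, mul_zero]
  · exact h

theorem torZ_one_iff [NeZero M] (a : ZMod M) : TorZ (Nat.card F) M 1 a ↔
    (Nat.card F - 1) • a = 0 := by
  have h2 := two_le_card hctx
  rw [TorZ, pow_one, nsmul_eq_mul, Nat.cast_sub (by omega)]
  push_cast
  rfl

theorem expo_mul [NeZero M] {d : ℕ} (hd : M = d * (Nat.card F - 1)) (e : ℕ) :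
    expo (Nat.card F) M 1 ((d * e : ℕ) : ZMod M) = e % (Nat.card F - 1) := by
  have h2 := two_le_card hctx
  have hM := Nat.pos_of_ne_zero (NeZero.ne M)
  have hd0 : 0 < d := by
    rcases Nat.eq_zero_or_pos d with h | h
    · rw [h, zero_mul] at hd
      omega
    · exact h
  rw [expo, pow_one, ZMod.val_natCast, hd, Nat.mul_mod_mul_left, mul_assoc, mul_comm (e % _) _, ← mul_assoc,
    Nat.mul_div_cancel_left _ (by rw [← hd]; exact hM)]

theorem exists_rep [NeZero M] {d : ℕ} (hd : M = d * (Nat.card F - 1)) {a : ZMod M}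
    (ha : TorZ (Nat.card F) M 1 a) : ∃ e : ℕ, e < Nat.card F - 1 ∧ a = ((d * e : ℕ) : ZMod M) := by
  have h2 := two_le_card hctx
  have hM := Nat.pos_of_ne_zero (NeZero.ne M)
  have h3 : 0 < Nat.card F - 1 := by omega
  rw [torZ_one_iff hctx hN] at ha
  have h1 : M ∣ (Nat.card F - 1) * a.val := by
    rw [← ZMod.natCast_eq_zero_iff, Nat.cast_mul, ZMod.natCast_zmod_val, ← nsmul_eq_mul]
    exact ha
  have h4 : d ∣ a.val := by
    have h5 : (Nat.card F - 1) * d ∣ (Nat.card F - 1) * a.val := by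
      rw [mul_comm, ← hd]
      exact h1
    exact Nat.dvd_of_mul_dvd_mul_left h3 h5
  obtain ⟨e, he⟩ := h4
  refine ⟨e, ?_, ?_⟩
  · have h5 := ZMod.val_lt a
    rw [he] at h5
    have h6 : d * e < d * (Nat.card F - 1) := hd ▸ h5
    exact Nat.lt_of_mul_lt_mul_left h6
  · rw [← he, ZMod.natCast_zmod_val]

theorem torZ_rep [NeZero M] {d : ℕ} (hd : M = d * (Nat.card F - 1)) (e : ℕ) :
    TorZ (Nat.card F) M 1 ((d * e : ℕ) : ZMod M) := by
  rw [torZ_one_iff hctx hN, nsmul_eq_mul, ← Nat.cast_mul, ZMod.natCast_eq_zero_iff]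
  refine ⟨e, ?_⟩
  nth_rewrite 1 [hd]
  ring

theorem linH_rep [NeZero M] {d : ℕ} (hd : M = d * (Nat.card F - 1)) (e : ℕ) :
    linH F θ M ((d * e : ℕ) : ZMod M) = thH F θ ^ e := by
  rw [linH_eq, expo_mul hctx hN hd, ← orderOf_thH hctx, pow_mod_orderOf]

theorem linH_add [NeZero M] {a b : ZMod M} (ha : TorZ (Nat.card F) M 1 a)
    (hb : TorZ (Nat.card F) M 1 b) : linH F θ M (a + b) = linH F θ M a * linH F θ M b := by
  obtain ⟨d, -, hd⟩ := exists_dd hctx hN
  obtain ⟨e, -, rfl⟩ := exists_rep hctx hN hd ha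
  obtain ⟨f, -, rfl⟩ := exists_rep hctx hN hd hb
  rw [← Nat.cast_add, ← mul_add, linH_rep hctx hN hd, linH_rep hctx hN hd, linH_rep hctx hN hd, hom_pow_add]

theorem linH_zero [NeZero M] : linH F θ M 0 = 1 := by
  obtain ⟨d, -, hd⟩ := exists_dd hctx hN
  have h1 := linH_rep hctx hN hd 0
  rw [mul_zero, Nat.cast_zero, hom_pow_zero] at h1
  exact h1

theorem torZ_nsmul [NeZero M] {a : ZMod M} (ha : TorZ (Nat.card F) M 1 a) (k : ℕ) :
    TorZ (Nat.card F) M 1 (k • a) := by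
  rw [torZ_one_iff hctx hN] at ha ⊢
  rw [smul_comm, ha, smul_zero]

theorem linH_nsmul [NeZero M] {a : ZMod M} (ha : TorZ (Nat.card F) M 1 a) (k : ℕ) :
    linH F θ M (k • a) = linH F θ M a ^ k := by
  induction k with
  | zero => rw [zero_smul, linH_zero hctx hN, hom_pow_zero]
  | succ k ih => rw [succ_nsmul, linH_add hctx hN (torZ_nsmul hctx hN ha k) ha, ih, hom_pow_succ]

theorem linH_injOn [NeZero M] {a b : ZMod M} (ha : TorZ (Nat.card F) M 1 a)
    (hb : TorZ (Nat.card F) M 1 b) (h : linH F θ M a = linH F θ M b) : a = b := by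
  obtain ⟨d, -, hd⟩ := exists_dd hctx hN
  obtain ⟨e, he, rfl⟩ := exists_rep hctx hN hd ha
  obtain ⟨f, hf, rfl⟩ := exists_rep hctx hN hd hb
  rw [linH_rep hctx hN hd, linH_rep hctx hN hd] at h
  have h1 : e = f := pow_injOn_Iio_orderOf (by rw [orderOf_thH hctx]; exact he)
    (by rw [orderOf_thH hctx]; exact hf) h
  rw [h1]

theorem linH_eq_one_iff [NeZero M] {a : ZMod M} (ha : TorZ (Nat.card F) M 1 a) :
    linH F θ M a = 1 ↔ a = 0 := by
  constructor
  · intro h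
    refine linH_injOn hctx hN ha ?_ (h.trans (linH_zero hctx hN).symm)
    rw [TorZ, mul_zero]
  · rintro rfl
    exact linH_zero hctx hN

theorem orderOf_linH [NeZero M] {a : ZMod M} (ha : TorZ (Nat.card F) M 1 a) :
    orderOf (linH F θ M a) = addOrderOf a := by
  refine Nat.dvd_antisymm ?_ ?_
  · apply orderOf_dvd_of_pow_eq_one
    rw [← linH_nsmul hctx hN ha, addOrderOf_nsmul_eq_zero, linH_zero hctx hN]
  · apply addOrderOf_dvd_of_nsmul_eq_zero
    rw [← linH_eq_one_iff hctx hN (torZ_nsmul hctx hN ha _), linH_nsmul hctx hN ha, pow_orderOf_eq_one]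

theorem exists_linH [NeZero M] (α : Fˣ →* ℂˣ) : ∃ a : ZMod M, TorZ (Nat.card F) M 1 a ∧ linH F θ M a = α := by
  obtain ⟨d, -, hd⟩ := exists_dd hctx hN
  obtain ⟨e, rfl⟩ := thH_gen hctx α
  exact ⟨_, torZ_rep hctx hN hd e, linH_rep hctx hN hd e⟩

end

section

variable {F : Type u} [Field F]

theorem dch_apply {n : ℕ} (α : Fˣ →* ℂˣ) (g : GL (Fin n) F) :
    dch n α g = α (Matrix.GeneralLinearGroup.det g) := rfl

theorem dch_injective {n : ℕ} (hn : 0 < n) : Function.Injective (fun α : Fˣ →* ℂˣ => dch (F := F) n α) := by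
  have : Nonempty (Fin n) := ⟨⟨0, hn⟩⟩
  intro α β h
  ext y
  obtain ⟨g, rfl⟩ := Matrix.GeneralLinearGroup.det_surjective (n := Fin n) y
  exact congrArg (fun z : ℂˣ => (z : ℂ)) (DFunLike.congr_fun h g)

theorem dch_mul {n : ℕ} (α β : Fˣ →* ℂˣ) : dch (F := F) n (α * β) = dch n α * dch n β := rfl

theorem dch_pow {n : ℕ} (α : Fˣ →* ℂˣ) (k : ℕ) : dch (F := F) n (α ^ k) = dch n α ^ k := by
  ext g
  rfl

theorem orderOf_dch {n : ℕ} (hn : 0 < n) (α : Fˣ →* ℂˣ) : orderOf (dch (F := F) n α) = orderOf α := by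
  refine Nat.dvd_antisymm ?_ ?_
  · apply orderOf_dvd_of_pow_eq_one
    rw [← dch_pow, pow_orderOf_eq_one]
    rfl
  · apply orderOf_dvd_of_pow_eq_one
    apply dch_injective hn
    change dch n (α ^ orderOf (dch n α)) = dch n 1
    rw [dch_pow, pow_orderOf_eq_one]
    rfl

/-- the kernel of the determinant -/
noncomputable abbrev SK (F : Type u) [Field F] (n : ℕ) : Subgroup (GL (Fin n) F) :=
  (Matrix.GeneralLinearGroup.det : GL (Fin n) F →* Fˣ).ker

theorem exists_dch {n : ℕ} (hn : 0 < n) (l : GL (Fin n) F →* ℂˣ) (hl : ∀ x ∈ SK F n, l x = 1) :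
    ∃ α : Fˣ →* ℂˣ, dch n α = l := by
  have : Nonempty (Fin n) := ⟨⟨0, hn⟩⟩
  have hs := Matrix.GeneralLinearGroup.det_surjective (n := Fin n) (R := F)
  refine ⟨(Matrix.GeneralLinearGroup.det.liftOfSurjective hs) ⟨l, fun x hx => ?_⟩, ?_⟩
  · rw [MonoidHom.mem_ker]
    exact hl x hx
  · exact Matrix.GeneralLinearGroup.det.liftOfRightInverse_comp _ _ ⟨l, _⟩

theorem isCyclic_quot_SK [Finite F] {n : ℕ} (hn : 0 < n) : IsCyclic (GL (Fin n) F ⧸ SK F n) := by
  have : Nonempty (Fin n) := ⟨⟨0, hn⟩⟩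
  have hs := Matrix.GeneralLinearGroup.det_surjective (n := Fin n) (R := F)
  exact isCyclic_of_surjective (QuotientGroup.quotientKerEquivOfSurjective _ hs).symm
    (QuotientGroup.quotientKerEquivOfSurjective _ hs).symm.surjective

theorem index_SK [Finite F] {n : ℕ} (hn : 0 < n) : (SK F n).index = Nat.card Fˣ := by
  have : Nonempty (Fin n) := ⟨⟨0, hn⟩⟩
  have hs := Matrix.GeneralLinearGroup.det_surjective (n := Fin n) (R := F)
  exact Nat.card_congr (QuotientGroup.quotientKerEquivOfSurjective _ hs).toEquiv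

end

end Cfsg.Agent.H666.Clif
end
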