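import Cfsg.Agent.H577.GLB.Clif
import Cfsg.Agent.Blocks.PRegular
import Cfsg.Agent.Blocks.Over
import Cfsg.Agent.CharDeep.CliffordCorr
set_option linter.all false

/-!
# Brauer characters and blocks of a normal subgroup of `p`-power index

* `mem_block_of_over`: if the index of `N` is a power of `p`, all the characters of `G` over a block of `N`
  covered by `B` lie in `B`;
* `le_sum`: `blockRank p B' ≤ ∑ (number of constituents)`;
* `exists_fixed_of`: a member of the block fixed by a linear character.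
-/

set_option autoImplicit false

open Cfsg IsLocalRing Module
open scoped ComplexConjugate
open Cfsg.Agent.H657 Cfsg.Agent.H577.GLB
open Cfsg.Agent.H608.BlockRank Cfsg.Agent.Blocks.Basic Cfsg.Agent.Blocks.Local

namespace Cfsg.Agent.H666.Clif

universe u

section

variable {G : Type u} [Group G] [Finite G] {p : ℕ} {M : Ideal AlgInt}

theorem mem_of_pRegular (hp : p.Prime) (N : Subgroup G) [N.Normal] {a : ℕ}
    (hi : Nat.card (G ⧸ N) = p ^ a) {g : G} (hg : IsPRegular p g) : g ∈ N := by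
  have h1 : orderOf (QuotientGroup.mk' N g) ∣ orderOf g := orderOf_map_dvd _ _
  have h2 : orderOf (QuotientGroup.mk' N g) ∣ p ^ a := hi ▸ orderOf_dvd_natCard _
  have h3 : (orderOf g).Coprime (p ^ a) :=
    (Nat.Coprime.pow_left a ((Nat.Prime.coprime_iff_not_dvd hp).2 hg)).symm
  have h4 : orderOf (QuotientGroup.mk' N g) = 1 := Nat.eq_one_of_dvd_coprimes h3 h1 h2
  rwa [orderOf_eq_one_iff, QuotientGroup.mk'_apply, QuotientGroup.eq_one_iff] at h4

/-- `χ` lies over `ε`. -/
def Ov (N : Subgroup G) (χ : IrrCharacter G) (ε : IrrCharacter N) : Prop :=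
  ∑ᶠ x : N, (χ : G → ℂ) x * conj ((ε : N → ℂ) x) ≠ 0

omit [Finite G] in
theorem ov_iff [Fintype G] (N : Subgroup G) [Fintype N] (χ : IrrCharacter G) (ε : IrrCharacter N) :
    Ov N χ ε ↔ classInner (fun n : N => (χ : G → ℂ) n) (ε : N → ℂ) ≠ 0 := by
  unfold Ov classInner
  rw [finsum_eq_sum_of_fintype]
  constructor
  · intro h
    refine mul_ne_zero (inv_ne_zero ?_) h
    exact_mod_cast Nat.card_pos.ne'
  · intro h h0
    exact h (by rw [h0, mul_zero])

theorem ov_iff_cov (N : Subgroup G) (χ : IrrCharacter G) (ε : IrrCharacter N) :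
    Ov N χ ε ↔ (∑ᶠ x : N, (ε : N → ℂ) x * (starRingEnd ℂ) ((χ : G → ℂ) x)) ≠ 0 := by
  have := Fintype.ofFinite N
  unfold Ov
  rw [finsum_eq_sum_of_fintype, finsum_eq_sum_of_fintype]
  have h : ∑ x : N, (ε : N → ℂ) x * conj ((χ : G → ℂ) x) =
      conj (∑ x : N, (χ : G → ℂ) x * conj ((ε : N → ℂ) x)) := by
    rw [map_sum]
    refine Finset.sum_congr rfl fun x _ => ?_
    rw [map_mul, Complex.conj_conj, mul_comm]
  rw [h]
  constructor
  · intro h1 h2
    exact h1 ((map_eq_zero _).1 h2)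
  · intro h1 h2
    exact h1 (by rw [h2, map_zero])

theorem exists_ov (N : Subgroup G) (ε : IrrCharacter N) : ∃ χ : IrrCharacter G, Ov N χ ε := by
  have := Fintype.ofFinite G
  have := Fintype.ofFinite N
  obtain ⟨χ, hχ⟩ := Blocks.Over.exists_over N ε
  exact ⟨χ, (ov_iff N χ ε).2 hχ⟩

/-- Over `SameBlock` characters of a normal subgroup of `p`-power index lie `SameBlock` characters. -/
theorem sameBlock_of_ov (hM : IsPModular p M) (N : Subgroup G) [N.Normal] {a : ℕ}
    (hi : Nat.card (G ⧸ N) = p ^ a) {χ χ' : IrrCharacter G} {ε ε' : IrrCharacter N}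
    (h : Ov N χ ε) (h' : Ov N χ' ε') (hs : SameBlock M (ε : N → ℂ) (ε' : N → ℂ)) :
    SameBlock M (χ : G → ℂ) (χ' : G → ℂ) := by
  have := Fact.mk hM.1
  have := Fintype.ofFinite G
  have := Fintype.ofFinite N
  have hMp := isPrime_of_isPModular hM
  refine Blocks.PRegular.sameBlock_of_isPRegular hM χ.2 χ'.2 fun g hg => ?_
  have hgN := mem_of_pRegular hM.1 N hi hg
  have h1 := Blocks.Over.centralChar_eq_of_over N χ.2 ε.2 ((ov_iff N χ ε).1 h) ⟨g, hgN⟩
  have h2 := Blocks.Over.centralChar_eq_of_over N χ'.2 ε'.2 ((ov_iff N χ' ε').1 h') ⟨g, hgN⟩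
  have h3 := Blocks.Induced.memLocalIdeal_induced_sub hMp N ε ε' hs g
  change MemLocalIdeal M (centralChar (χ : G → ℂ) ((⟨g, hgN⟩ : N) : G) -
    centralChar (χ' : G → ℂ) ((⟨g, hgN⟩ : N) : G))
  rw [h1, h2]
  exact h3

/-- the irreducible characters of `N` below a member of `B` -/
def below (N : Subgroup G) (B : Set (IrrCharacter G)) : Set (IrrCharacter N) :=
  {ε | ∃ χ ∈ B, Ov N χ ε}

theorem mem_of_below (hM : IsPModular p M) (N : Subgroup G) [N.Normal] {a : ℕ}
    (hi : Nat.card (G ⧸ N) = p ^ a) {B : Set (IrrCharacter G)} (hB : IsUnion M B)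
    {ε ε' : IrrCharacter N} (h : ε ∈ below N B) (hs : SameBlock M (ε : N → ℂ) (ε' : N → ℂ))
    {χ : IrrCharacter G} (hχ : Ov N χ ε') : χ ∈ B := by
  obtain ⟨ψ, hψ, h1⟩ := h
  exact hB ψ χ (sameBlock_of_ov hM N hi h1 hχ hs) hψ

theorem isUnion_below (hM : IsPModular p M) (N : Subgroup G) [N.Normal] {a : ℕ}
    (hi : Nat.card (G ⧸ N) = p ^ a) {B : Set (IrrCharacter G)} (hB : IsUnion M B) :
    IsUnion M (below N B) := by
  intro ε ε' hs h
  obtain ⟨χ, hχ⟩ := exists_ov N ε'
  exact ⟨χ, mem_of_below hM N hi hB h hs hχ, hχ⟩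

omit [Finite G] in
theorem restr_classFun (N : Subgroup G) {f : G → ℂ} (hf : IsClassFunction G f) :
    IsClassFunction N (fun n : N => f n) := by
  intro g h
  exact hf g h

theorem restr_mem (N : Subgroup G) (B : Set (IrrCharacter G)) {f : G → ℂ} (hf : f ∈ charSpan B) :
    (fun n : N => f n) ∈ charSpan (below N B) := by
  have := Fintype.ofFinite G
  have := Fintype.ofFinite N
  unfold charSpan at hf
  induction hf using Submodule.span_induction with
  | mem f hf =>
    obtain ⟨χ, hχ, rfl⟩ := hf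
    refine mem_charSpan_of_classInner (restr_classFun N (irr_isClassFunction χ.2)) fun ψ hψ => ?_
    by_contra hne
    exact hψ ⟨χ, hχ, (ov_iff N χ ψ).2 hne⟩
  | zero => exact Submodule.zero_mem _
  | add f g _ _ h1 h2 => exact Submodule.add_mem _ h1 h2
  | smul c f _ h1 => exact Submodule.smul_mem _ c h1

theorem pRegular_coe {N : Subgroup G} (x : N) : IsPRegular p (x : G) ↔ IsPRegular p x := by
  unfold IsPRegular
  rw [Subgroup.orderOf_coe]

end

section

variable {V : ValuationSubring ℂ} {G : Type u} [Group G] [Finite G] {p : ℕ} {M : Ideal AlgInt}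

theorem restr_phi_mem (hM : IsPModular p M) (hV : Above M V) (N : Subgroup G) [N.Normal] {a : ℕ}
    (hi : Nat.card (G ⧸ N) = p ^ a) {B : Set (IrrCharacter G)} (hB : IsUnion M B)
    {i : IBr V G} (hiB : i ∈ ibrUnder V B) :
    (fun n : N => phi p i n) ∈ Submodule.span ℂ (phi p '' ibrUnder V (below N B)) := by
  have h1 : phi p i ∈ Submodule.span ℂ (phi p '' ibrUnder V B) := Submodule.subset_span ⟨i, hiB, rfl⟩
  rw [← map_pReg_charSpan hM hV hB] at h1
  obtain ⟨f, hf, hf'⟩ := h1
  rw [← map_pReg_charSpan hM hV (isUnion_below hM N hi hB)]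
  refine ⟨_, restr_mem N B hf, ?_⟩
  rw [← hf']
  funext n
  by_cases h : IsPRegular p n
  · rw [pReg_of h, pReg_of ((pRegular_coe n).2 h)]
  · rw [pReg_of_not h, pReg_of_not (fun h' => h ((pRegular_coe n).1 h'))]

/-- The constituents of the restriction of a member of `IBr(B)` lie in blocks below `B`. -/
theorem mem_ibrUnder_below (hM : IsPModular p M) (hV : Above M V) (N : Subgroup G) [N.Normal] {a : ℕ}
    (hi : Nat.card (G ⧸ N) = p ^ a) {B : Set (IrrCharacter G)} (hB : IsUnion M B)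
    {i : IBr V G} (hiB : i ∈ ibrUnder V B) {O : Finset (IBr V N)} (hO : IsRes p N i O)
    {j : IBr V N} (hj : j ∈ O) : j ∈ ibrUnder V (below N B) := by
  classical
  have : Fact p.Prime := ⟨hM.1⟩
  have : CharP (ResidueField V) p := hV.charP hM
  have h1 := restr_phi_mem hM hV N hi hB hiB
  have h2 : (fun n : N => phi p i n) = ∑ j ∈ O, phi p j := by
    funext n
    rw [Finset.sum_apply]
    exact hO n
  rw [h2] at h1
  by_contra hcon
  have hli := linearIndependent_phi (V := V) (G := N) (p := p)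
  have h3 : phi p j ∈ Submodule.span ℂ (phi p '' ({j}ᶜ : Set (IBr V N))) := by
    have h4 : phi p j = ∑ j ∈ O, phi p j - ∑ j ∈ O.erase j, phi p j := by
      rw [← Finset.add_sum_erase O (fun j => phi p j) hj]
      abel
    rw [h4]
    refine Submodule.sub_mem _ (Submodule.span_mono (Set.image_mono ?_) h1) ?_
    · intro x hx hxj
      rw [Set.mem_singleton_iff] at hxj
      exact hcon (hxj ▸ hx)
    · refine Submodule.sum_mem _ fun x hx => Submodule.subset_span ⟨x, ?_, rfl⟩
      exact fun h => (Finset.mem_erase.1 hx).1 h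
  exact hli.notMem_span_image (s := ({j}ᶜ : Set (IBr V N))) (by simp) h3

theorem isRes_unique (hM : IsPModular p M) (hV : Above M V) (N : Subgroup G) {i : IBr V G}
    {O O' : Finset (IBr V N)} (hO : IsRes p N i O) (hO' : IsRes p N i O') : O = O' := by
  classical
  have : Fact p.Prime := ⟨hM.1⟩
  have : CharP (ResidueField V) p := hV.charP hM
  have := Fintype.ofFinite (IBr V N)
  have hli := linearIndependent_phi (V := V) (G := N) (p := p)
  rw [Fintype.linearIndependent_iff] at hli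
  have h1 : ∑ j : IBr V N, ((if j ∈ O then (1 : ℂ) else 0) - (if j ∈ O' then (1 : ℂ) else 0)) • phi p j = 0 := by
    have e : ∀ O : Finset (IBr V N), ∑ j : IBr V N, (if j ∈ O then (1 : ℂ) else 0) • phi p j =
        ∑ j ∈ O, phi p j := by
      intro O
      simp only [ite_smul, one_smul, zero_smul]
      rw [Finset.sum_ite_mem, Finset.univ_inter]
    simp only [sub_smul]
    rw [Finset.sum_sub_distrib, e, e]
    funext n
    rw [Pi.sub_apply, Finset.sum_apply, Finset.sum_apply, ← hO n, ← hO' n, sub_self, Pi.zero_apply]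
  have h2 := hli _ h1
  ext j
  have h3 := h2 j
  by_cases ha : j ∈ O <;> by_cases hb : j ∈ O' <;> simp_all

/-- P2, with P1' as hypothesis. -/
theorem blockRank_le_sum_of (hM : IsPModular p M) (hV : Above M V) (N : Subgroup G) [N.Normal]
    {a : ℕ} (hi : Nat.card (G ⧸ N) = p ^ a)
    (hov : ∀ j : IBr V N, ∃ (i : IBr V G) (O : Finset (IBr V N)), IsRes p N i O ∧ j ∈ O)
    {B : Set (IrrCharacter G)}
    (hB : IsPBlock M B) {B' : Set (IrrCharacter N)} (hB' : IsPBlock M B') (hcov : Cov N B B')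
    (O : IBr V G → Finset (IBr V N)) (hO : ∀ i ∈ ibrUnder V B, IsRes p N i (O i))
    [Fintype (ibrUnder V B)] :
    blockRank p B' ≤ ∑ i : ibrUnder V B, (O i).card := by
  classical
  have : Fact p.Prime := ⟨hM.1⟩
  have : CharP (ResidueField V) p := hV.charP hM
  have hMp := isPrime_of_isPModular hM
  have hBU : IsUnion M B := fun χ ψ h hχ => Blocks.Covering.mem_of_sameBlock hMp hB hχ h
  have hBU' : IsUnion M B' := fun χ ψ h hχ => Blocks.Covering.mem_of_sameBlock hMp hB' hχ h
  rw [blockRank_eq_card hM hV hBU']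
  have key : ∀ j ∈ ibrUnder V B', ∃ i : ibrUnder V B, j ∈ O i := by
    intro j hj
    obtain ⟨i, Oi, hOi, hji⟩ := hov j
    have hiB : i ∈ ibrUnder V B := by
      by_contra hcon
      obtain ⟨χ'', hχ''⟩ := exists_under hM hV i
      -- the block of `i`
      have hB2 : IsUnion M (Bᶜ : Set (IrrCharacter G)) := by
        intro χ ψ h hχ hψ
        exact hχ (hBU ψ χ (Blocks.Covering.sameBlock_symm h) hψ)
      have hi2 : i ∈ ibrUnder V (Bᶜ : Set (IrrCharacter G)) :=
        ⟨χ'', fun h => hcon ⟨χ'', h, hχ''⟩, hχ''⟩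
      obtain ⟨ε', hε', hu'⟩ := mem_ibrUnder_below hM hV N hi hB2 hi2 hOi hji
      obtain ⟨ε, hε, hu⟩ := hj
      have hs := under_sameBlock hM hV ε.2 ε'.2 hu hu'
      obtain ⟨χ, hχ, η, hη, hne⟩ := hcov
      have hχη : Ov N χ η := (ov_iff_cov N χ η).2 hne
      have hηε' : SameBlock M (η : N → ℂ) (ε' : N → ℂ) :=
        Blocks.Covering.sameBlock_trans hMp (Blocks.Covering.sameBlock_of_mem hMp hB' hη hε) hs
      obtain ⟨ψ, hψ, hψε'⟩ := hε'
      exact hψ (mem_of_below hM N hi hBU ⟨χ, hχ, hχη⟩ hηε' hψε')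
    refine ⟨⟨i, hiB⟩, ?_⟩
    rw [isRes_unique hM hV N (hO i hiB) hOi]
    exact hji
  have hsub : ibrUnder V B' ⊆ ((Finset.univ.biUnion fun i : ibrUnder V B => O i : Finset (IBr V N)) :
      Set (IBr V N)) := by
    intro j hj
    obtain ⟨i, hij⟩ := key j hj
    rw [Finset.mem_coe, Finset.mem_biUnion]
    exact ⟨i, Finset.mem_univ _, hij⟩
  refine le_trans ?_ (Finset.card_biUnion_le)
  rw [Nat.card_coe_set_eq, ← Set.ncard_coe_finset]
  exact Set.ncard_le_ncard hsub (Finset.finite_toSet _)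

end

end Cfsg.Agent.H666.Clif
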